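import Groth.Agent.S0590
import Groth.Agent.CalgA.LimFP2
import Groth.Agent.Sga3.H515.LimSmooth
import Groth.Agent.Ega43.LimSurj
import Groth.Agent.Ega43.LimitDescendCompare

/-!
# Absolute approximation of flat surjective morphisms of finite presentation

Every flat surjective morphism of finite presentation `h : V ⟶ T` with `T` quasi-compact and quasi-separated is the
base change of a flat surjective morphism of finite presentation between schemes of finite type over the integers.
-/

universe u

open CategoryTheory CategoryTheory.Limits AlgebraicGeometry Opposite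

set_option backward.isDefEq.respectTransparency false

namespace K600.ApproxFlat

open Groth.Agent.Ega43.LimDesc Groth.Agent.CalgA.LimFP

variable {I : Type u} [SmallCategory I] [IsCofiltered I] {D : I ⥤ Scheme.{u}} {c : Cone D} (hc : IsLimit c)
  [hDa : ∀ (i j : I) (f : i ⟶ j), IsAffineHom (D.map f)] [∀ i, CompactSpace (D.obj i)]
  [∀ i, QuasiSeparatedSpace (D.obj i)]

include hc hDa in
/-- A model acquires at some later stage a property which descends along limits. -/
theorem exists_up {P : MorphismProperty Scheme.{u}} [P.RespectsIso] (hP : Descends P) {A' : Scheme.{u}}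
    {f' : A' ⟶ c.pt} (hf' : P f') {i : I} (M : Mdl f' i) : ∃ (j : I) (a : j ⟶ i), P (M.bc a).f := by
  have := M.lfp
  have := M.qc
  have := M.qs
  obtain ⟨j, a, Xj, p, fj, hpb, hfj⟩ := hP D c hc i M.f M.p f' M.h hf'
  refine ⟨j, a, ?_⟩
  have e : (M.bc a).f = ((IsPullback.of_hasPullback M.f (D.map a)).isoIsPullback _ _ hpb).hom ≫ fj := by
    rw [IsPullback.isoIsPullback_hom_snd]
    rfl
  rw [e]
  exact (P.cancel_left_of_respectsIso _ _).2 hfj

theorem descends_flat : Descends @Flat.{u} :=
  Groth.Agent.Ega43.LimitDescendCompare.descends_of_descendsLim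
    Groth.Agent.Sga3.H515.LimSmooth.descendsLim_flat

include hc hDa in
theorem exists_flat_surj_stage {V : Scheme.{u}} (h : V ⟶ c.pt) [Flat h] [Surjective h]
    [LocallyOfFinitePresentation h] [QuasiCompact h] [QuasiSeparated h] :
    ∃ (k : I) (M : Mdl h k), Flat M.f ∧ Surjective M.f := by
  obtain ⟨i, ⟨M⟩⟩ := Mdl.exists_model hc h
  obtain ⟨j, a, h1⟩ := exists_up hc descends_flat (inferInstance : Flat h) M
  obtain ⟨k, b, h2⟩ := exists_up hc Groth.Agent.Ega43.LimSurj.descends_surjective (inferInstance : Surjective h) (M.bc a)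
  refine ⟨k, (M.bc a).bc b, ?_, h2⟩
  have : Flat (M.bc a).f := h1
  change Flat (pullback.snd (M.bc a).f (D.map b))
  infer_instance

/-- Absolute approximation of a flat surjective morphism of finite presentation. -/
theorem exists_flat_model {V T : Scheme.{u}} [CompactSpace T] [QuasiSeparatedSpace T] (h : V ⟶ T) [Flat h]
    [Surjective h] [LocallyOfFinitePresentation h] [QuasiCompact h] [QuasiSeparated h] :
    ∃ (T₀ Q : Scheme.{u}) (q : T₀ ⟶ Q) (a : T ⟶ Q) (b : V ⟶ T₀), IsPullback b h q a ∧ Flat q ∧ Surjective q ∧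
      LocallyOfFinitePresentation q ∧ QuasiCompact q ∧ QuasiSeparated q ∧ CompactSpace Q ∧ QuasiSeparatedSpace Q ∧
      LocallyOfFinitePresentation (specULiftZIsTerminal.from Q) := by
  obtain ⟨I, _, _, _, D, c, hc, h1, h2, ⟨e⟩⟩ := Groth.Agent.S0590.result T
  have inst1 : ∀ (i j : Iᵒᵖ) (f : i ⟶ j), IsAffineHom (D.map f) := h1
  have inst2 : ∀ i, CompactSpace (D.obj i) := fun i => (h2 i).1
  have inst3 : IsNoetherianRing (ULift.{u} ℤ) :=
    isNoetherianRing_of_ringEquiv ℤ ULift.ringEquiv.symm
  have inst4 : ∀ i, IsLocallyNoetherian (D.obj i) := fun i => by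
    have := (h2 i).2
    exact LocallyOfFiniteType.isLocallyNoetherian (Limits.IsTerminal.from specULiftZIsTerminal (D.obj i))
  have inst5 : ∀ i, QuasiSeparatedSpace (D.obj i) := fun i => inferInstance
  obtain ⟨k, M, h3, h4⟩ := exists_flat_surj_stage (c := c) hc (h ≫ e.inv)
  refine ⟨M.A, D.obj k, M.f, e.inv ≫ c.π.app k, M.p, ?_, h3, h4, M.lfp, M.qc, M.qs, inferInstance, inferInstance, ?_⟩
  · exact IsPullback.of_iso M.h (Iso.refl _) (Iso.refl _) e (Iso.refl _) (by simp) (by simp) (by simp) (by simp)
  · have := (h2 k).2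
    infer_instance

end K600.ApproxFlat
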