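import Groth.Prelude.Def_AlgSpOX2
import Mathlib.AlgebraicGeometry.Morphisms.LocalFlatDescent

/-!
# Basic facts on represented pullbacks and base change of the small etale site
-/

universe u

open CategoryTheory CategoryTheory.Limits AlgebraicGeometry Opposite
open AlgSp

set_option backward.isDefEq.respectTransparency false

namespace K600.Basic

variable {S : Scheme.{u}} {X Y Z : Sp S}

/-- The projection of the chosen base change satisfies `P`. -/
theorem bcπ_mem {P : MorphismProperty Scheme.{u}} {i : Z ⟶ X} (hi : RepWith P i) (E : EtOver X) :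
    P (EtOver.bcπ hi.1 E).left :=
  hi.2 _ _ _ (EtOver.isPullback_bcObj hi.1 E)

/-- Two represented pullbacks of the same cospan are isomorphic over the base. -/
theorem exists_iso_of_isPullback {f : Z ⟶ X} {T V V' : Over S} {g : (yon S).obj T ⟶ X}
    {fst : (yon S).obj V ⟶ Z} {snd : V ⟶ T} {fst' : (yon S).obj V' ⟶ Z} {snd' : V' ⟶ T}
    (h : IsPullback fst ((yon S).map snd) f g) (h' : IsPullback fst' ((yon S).map snd') f g) :
    ∃ e : V ≅ V', e.hom ≫ snd' = snd ∧ (yon S).map e.hom ≫ fst' = fst := by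
  refine ⟨(yon S).preimageIso (h.isoIsPullback _ _ h'), ?_, ?_⟩
  · apply (yon S).map_injective
    rw [Functor.map_comp, Functor.preimageIso_hom, Functor.map_preimage]
    exact h.isoIsPullback_hom_snd _ _ h'
  · rw [Functor.preimageIso_hom, Functor.map_preimage]
    exact h.isoIsPullback_hom_fst _ _ h'

/-- a lift of a square with vertex a scheme, into a represented pullback -/
theorem exists_lift {f : Z ⟶ X} {T V W : Over S} {g : (yon S).obj T ⟶ X}
    {fst : (yon S).obj V ⟶ Z} {snd : V ⟶ T}
    (h : IsPullback fst ((yon S).map snd) f g) (a : (yon S).obj W ⟶ Z) (b : W ⟶ T)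
    (hab : a ≫ f = (yon S).map b ≫ g) :
    ∃ l : W ⟶ V, (yon S).map l ≫ fst = a ∧ l ≫ snd = b := by
  obtain ⟨l, hl⟩ := (yon S).map_surjective (h.lift a ((yon S).map b) hab)
  refine ⟨l, ?_, ?_⟩
  · rw [hl]; exact h.lift_fst _ _ _
  · apply (yon S).map_injective
    rw [Functor.map_comp, hl]; exact h.lift_snd _ _ _

theorem hom_ext {f : Z ⟶ X} {T V W : Over S} {g : (yon S).obj T ⟶ X}
    {fst : (yon S).obj V ⟶ Z} {snd : V ⟶ T}
    (h : IsPullback fst ((yon S).map snd) f g) {a b : W ⟶ V}
    (h₁ : (yon S).map a ≫ fst = (yon S).map b ≫ fst) (h₂ : a ≫ snd = b ≫ snd) : a = b := by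
  apply (yon S).map_injective
  apply h.hom_ext h₁
  rw [← Functor.map_comp, ← Functor.map_comp, h₂]

/-- pulling back further along a morphism of schemes: the square of schemes is a pullback. -/
theorem isPullback_left {f : Z ⟶ X} {T T' V V' : Over S} {g : (yon S).obj T ⟶ X}
    {fst : (yon S).obj V ⟶ Z} {snd : V ⟶ T} {fst' : (yon S).obj V' ⟶ Z} {snd' : V' ⟶ T'}
    {j : T' ⟶ T}
    (h : IsPullback fst ((yon S).map snd) f g) (h' : IsPullback fst' ((yon S).map snd') f ((yon S).map j ≫ g)) :
    ∃ k : V' ⟶ V, (yon S).map k ≫ fst = fst' ∧ IsPullback k snd' snd j ∧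
      IsPullback k.left snd'.left snd.left j.left := by
  obtain ⟨k, hk, hk'⟩ := exists_lift h fst' (snd' ≫ j) (by
    rw [h'.w, Functor.map_comp, Category.assoc])
  have h1 : IsPullback ((yon S).map k) ((yon S).map snd') ((yon S).map snd) ((yon S).map j) := by
    refine IsPullback.of_right ?_ ?_ h
    · rw [hk]; exact h'
    · rw [← Functor.map_comp, ← Functor.map_comp, hk']
  have h2 : IsPullback k snd' snd j := IsPullback.of_map (yon S) hk' h1
  exact ⟨k, hk, h2, h2.map (Over.forget S)⟩

/-- existence of the pulled back square -/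
theorem exists_isPullback_comp {f : Z ⟶ X} {T T' V : Over S} {g : (yon S).obj T ⟶ X}
    {fst : (yon S).obj V ⟶ Z} {snd : V ⟶ T} (h : IsPullback fst ((yon S).map snd) f g) (j : T' ⟶ T) :
    IsPullback ((yon S).map (pullback.fst snd j) ≫ fst) ((yon S).map (pullback.snd snd j)) f
      ((yon S).map j ≫ g) :=
  ((IsPullback.of_hasPullback snd j).map (yon S)).paste_horiz h

/-- A morphism between schemes etale over `X` is etale. -/
theorem etale_of_repWith {U V : Over S} {a : (yon S).obj U ⟶ X} {b : (yon S).obj V ⟶ X}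
    (ha : RepWith @Etale a) (hb : RepWith @Etale b) (h : U ⟶ V) (w : (yon S).map h ≫ b = a) :
    Etale h.left :=
  EtOver.etale_left (E := EtOver.mk a ha) (E' := EtOver.mk b hb) (EtOver.homMk h w)

/-- local on the target, with arbitrary pullback squares over the members of an open cover -/
theorem of_openCover {P : MorphismProperty Scheme.{u}} [IsZariskiLocalAtTarget P] {Z X : Scheme.{u}}
    {f : Z ⟶ X} (𝒰 : X.OpenCover)
    (H : ∀ i, ∃ (W : Scheme.{u}) (fst : W ⟶ Z) (snd : W ⟶ 𝒰.X i),
      IsPullback fst snd f (𝒰.f i) ∧ P snd) : P f := by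
  rw [IsZariskiLocalAtTarget.iff_of_openCover (P := P) 𝒰]
  intro i
  obtain ⟨W, fst, snd, h, hP⟩ := H i
  have : pullback.snd f (𝒰.f i) = h.isoPullback.inv ≫ snd := by
    rw [Iso.eq_inv_comp]; exact h.isoPullback_hom_snd
  change P (pullback.snd f (𝒰.f i))
  rw [this, P.cancel_left_of_respectsIso]
  exact hP

theorem repWith_comp_etale {U V : Over S} {b : (yon S).obj V ⟶ X} (hb : RepWith @Etale b)
    (h : U ⟶ V) [Etale h.left] : RepWith @Etale ((yon S).map h ≫ b) :=
  (repWith_isMultiplicative (S := S) @Etale).comp_mem _ _ ((repWith_yon_map_iff _ _).2 inferInstance) hb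

end K600.Basic
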