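import Groth.Prelude.Def_AlgSp3
import Groth.Agent.AlgSp.K600.Basic
import Groth.Agent.AlgSp.K613.Basic
import Groth.Agent.S2151
import Mathlib.CategoryTheory.Limits.Constructions.Over.Connected

/-!
# Pulling back a system of sheaves along a map from a scheme

`D : I ⥤ Sp S`, `i : I`, `p : h_U ⟶ D.obj i`.  A `Sys D i p` is a family of schemes `W_j` over `U` indexed by
`j : Over i`, representing `D_j ×_{D_i} h_U`.  It is automatically functorial (`Sys.W : Over i ⥤ Over S`).
If `c` is a limit cone of `D` and `V` represents `c.pt ×_{D_i} h_U`, then `V` is a limit of `W` in `Over S` and in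
`Scheme` (`Sys.isLimitCone`, `Sys.isLimitConeLeft`); conversely a limit of `W` represents `c.pt ×_{D_i} h_U`
(`Sys.isPullback_of_isLimit`).
-/

universe u

open CategoryTheory CategoryTheory.Limits AlgebraicGeometry Opposite
open AlgSp

set_option backward.isDefEq.respectTransparency false

namespace K600.LimSys

variable {S : Scheme.{u}} {I : Type u} [SmallCategory I] {D : I ⥤ Sp S} {i : I} {U : Over S}
  {p : (yon S).obj U ⟶ D.obj i}

/-- Schemes representing the pullbacks `D_j ×_{D_i} h_U` for `j` over `i`. -/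
structure Sys (D : I ⥤ Sp S) (i : I) {U : Over S} (p : (yon S).obj U ⟶ D.obj i) where
  obj : Over i → Over S
  fst : ∀ j : Over i, (yon S).obj (obj j) ⟶ D.obj j.left
  snd : ∀ j : Over i, obj j ⟶ U
  sq : ∀ j : Over i, IsPullback (fst j) ((yon S).map (snd j)) (D.map j.hom) p

namespace Sys

/-- a system from representability of the transition maps. -/
noncomputable def ofRep (hD : ∀ (i j : I) (φ : i ⟶ j), Representable (D.map φ)) (p : (yon S).obj U ⟶ D.obj i) :
    Sys D i p where
  obj j := (hD _ _ j.hom).pullback p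
  fst j := (hD _ _ j.hom).fst p
  snd j := (hD _ _ j.hom).snd p
  sq j := (hD _ _ j.hom).isPullback p

/-- a system from affine transition maps and an affine `U`. -/
theorem exists_ofAffine (hD : ∀ (i j : I) (φ : i ⟶ j), IsAffineMor (D.map φ)) (hU : IsAffine U.left)
    (p : (yon S).obj U ⟶ D.obj i) :
    ∃ s : Sys D i p, ∀ j, IsAffine (s.obj j).left := by
  choose W b a sq h using fun j : Over i => hD _ _ j.hom hU p
  exact ⟨⟨W, a, b, sq⟩, h⟩

variable (s : Sys D i p)

theorem w (j : Over i) : s.fst j ≫ D.map j.hom = (yon S).map (s.snd j) ≫ p := (s.sq j).w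

/-- the transition maps of the pulled back system -/
noncomputable def tr {j k : Over i} (f : j ⟶ k) : s.obj j ⟶ s.obj k :=
  (Basic.exists_lift (s.sq k) (s.fst j ≫ D.map f.left) (s.snd j) (by
    rw [Category.assoc, ← D.map_comp, Over.w f, s.w])).choose

@[reassoc]
theorem tr_fst {j k : Over i} (f : j ⟶ k) : (yon S).map (s.tr f) ≫ s.fst k = s.fst j ≫ D.map f.left :=
  (Basic.exists_lift (s.sq k) (s.fst j ≫ D.map f.left) (s.snd j) (by
    rw [Category.assoc, ← D.map_comp, Over.w f, s.w])).choose_spec.1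

@[reassoc]
theorem tr_snd {j k : Over i} (f : j ⟶ k) : s.tr f ≫ s.snd k = s.snd j :=
  (Basic.exists_lift (s.sq k) (s.fst j ≫ D.map f.left) (s.snd j) (by
    rw [Category.assoc, ← D.map_comp, Over.w f, s.w])).choose_spec.2

/-- the pulled back system -/
noncomputable def W : Over i ⥤ Over S where
  obj := s.obj
  map f := s.tr f
  map_id j := by
    refine Basic.hom_ext (s.sq j) ?_ ?_
    · rw [tr_fst, Over.id_left, D.map_id, Category.comp_id, (yon S).map_id, Category.id_comp]
    · rw [tr_snd, Category.id_comp]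
  map_comp {j k l} f g := by
    refine Basic.hom_ext (s.sq l) ?_ ?_
    · rw [tr_fst, Functor.map_comp, Category.assoc, tr_fst, tr_fst_assoc, Over.comp_left, D.map_comp]
    · rw [tr_snd, Category.assoc, tr_snd, tr_snd]

theorem W_obj (j : Over i) : s.W.obj j = s.obj j := rfl

@[reassoc]
theorem W_map_fst {j k : Over i} (f : j ⟶ k) : (yon S).map (s.W.map f) ≫ s.fst k = s.fst j ≫ D.map f.left :=
  s.tr_fst f

@[reassoc]
theorem W_map_snd {j k : Over i} (f : j ⟶ k) : s.W.map f ≫ s.snd k = s.snd j := s.tr_snd f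

theorem isPullback_map {j k : Over i} (f : j ⟶ k) :
    IsPullback (s.fst j) ((yon S).map (s.W.map f)) (D.map f.left) (s.fst k) := by
  refine IsPullback.of_bot ?_ (s.W_map_fst f).symm (s.sq k)
  rw [← D.map_comp, Over.w f, ← Functor.map_comp, s.W_map_snd]
  exact s.sq j

variable {c : Cone D} {V : Over S} {a : (yon S).obj V ⟶ c.pt} {b : V ⟶ U}
  (sq : IsPullback a ((yon S).map b) (c.π.app i) p)

/-- the projections from a scheme representing `c.pt ×_{D_i} h_U`. -/
noncomputable def proj (j : Over i) : V ⟶ s.obj j :=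
  (Basic.exists_lift (s.sq j) (a ≫ c.π.app j.left) b (by
    rw [Category.assoc, c.w, sq.w])).choose

@[reassoc]
theorem proj_fst (j : Over i) : (yon S).map (s.proj sq j) ≫ s.fst j = a ≫ c.π.app j.left :=
  (Basic.exists_lift (s.sq j) (a ≫ c.π.app j.left) b (by
    rw [Category.assoc, c.w, sq.w])).choose_spec.1

@[reassoc]
theorem proj_snd (j : Over i) : s.proj sq j ≫ s.snd j = b :=
  (Basic.exists_lift (s.sq j) (a ≫ c.π.app j.left) b (by
    rw [Category.assoc, c.w, sq.w])).choose_spec.2

/-- the cone over the pulled back system given by a scheme representing `c.pt ×_{D_i} h_U`. -/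
noncomputable def cone : Cone s.W where
  pt := V
  π :=
    { app := fun j => s.proj sq j
      naturality := fun {j k} f => by
        change 𝟙 V ≫ s.proj sq k = s.proj sq j ≫ s.tr f
        rw [Category.id_comp]
        refine Basic.hom_ext (s.sq k) ?_ ?_
        · rw [proj_fst, Functor.map_comp, Category.assoc, tr_fst, proj_fst_assoc, c.w]
        · rw [proj_snd, Category.assoc, tr_snd, proj_snd] }

theorem cone_pt : (s.cone sq).pt = V := rfl

theorem cone_π_app (j : Over i) : (s.cone sq).π.app j = s.proj sq j := rfl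

theorem isPullback_proj (j : Over i) :
    IsPullback a ((yon S).map (s.proj sq j)) (c.π.app j.left) (s.fst j) := by
  refine IsPullback.of_bot ?_ (s.proj_fst sq j).symm (s.sq j)
  rw [c.w, ← Functor.map_comp, s.proj_snd]
  exact sq

/-- the cone on sheaves restricted to `Over i` -/
noncomputable def isLimitWhisker [IsCofiltered I] (hc : IsLimit c) : IsLimit (c.whisker (Over.forget i)) :=
  (Functor.Initial.isLimitWhiskerEquiv (Over.forget i) c).symm hc

/-- maps into the limit from maps into the pulled back system -/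
theorem exists_toLimit [IsCofiltered I] (hc : IsLimit c) (t : Cone s.W) :
    ∃ x : (yon S).obj t.pt ⟶ c.pt, (∀ j : Over i, x ≫ c.π.app j.left = (yon S).map (t.π.app j) ≫ s.fst j) ∧
      x ≫ c.π.app i = (yon S).map (t.π.app (Over.mk (𝟙 i)) ≫ s.snd _) ≫ p ∧
      ∀ j : Over i, t.π.app j ≫ s.snd j = t.π.app (Over.mk (𝟙 i)) ≫ s.snd _ := by
  have hsnd : ∀ j : Over i, t.π.app j ≫ s.snd j = t.π.app (Over.mk (𝟙 i)) ≫ s.snd _ := by
    intro j
    rw [← t.w (Over.homMk j.hom : j ⟶ Over.mk (𝟙 i)), Category.assoc, s.W_map_snd]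
  let d : Cone (Over.forget i ⋙ D) :=
    { pt := (yon S).obj t.pt
      π :=
        { app := fun j => (yon S).map (t.π.app j) ≫ s.fst j
          naturality := fun {j k} f => by
            change 𝟙 _ ≫ (yon S).map (t.π.app k) ≫ s.fst k = ((yon S).map (t.π.app j) ≫ s.fst j) ≫ D.map f.left
            rw [Category.id_comp, Category.assoc, ← s.W_map_fst, ← Category.assoc, ← Functor.map_comp, t.w] } }
  have hx : ∀ j : Over i, (isLimitWhisker hc).lift d ≫ c.π.app j.left = (yon S).map (t.π.app j) ≫ s.fst j :=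
    fun j => (isLimitWhisker hc).fac d j
  refine ⟨_, hx, ?_, hsnd⟩
  have h1 := hx (Over.mk (𝟙 i))
  have h2 : (isLimitWhisker hc).lift d ≫ c.π.app i =
      ((isLimitWhisker hc).lift d ≫ c.π.app (Over.mk (𝟙 i)).left) ≫ D.map (Over.mk (𝟙 i)).hom := by
    change _ = (_ ≫ c.π.app i) ≫ D.map (𝟙 i)
    rw [D.map_id, Category.comp_id]
  rw [h2, h1, Category.assoc, s.w, Functor.map_comp, Category.assoc]

/-- A scheme representing `c.pt ×_{D_i} h_U` is a limit of the pulled back system. -/
noncomputable def isLimitCone [IsCofiltered I] (hc : IsLimit c) : IsLimit (s.cone sq) := by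
  have key : ∀ t : Cone s.W, ∃ l : t.pt ⟶ V, (∀ j, l ≫ s.proj sq j = t.π.app j) ∧
      ∀ m : t.pt ⟶ V, (∀ j, m ≫ s.proj sq j = t.π.app j) → m = l := by
    intro t
    obtain ⟨x, hx, hx', hsnd⟩ := s.exists_toLimit hc t
    obtain ⟨l, hl, hl'⟩ := Basic.exists_lift sq x (t.π.app (Over.mk (𝟙 i)) ≫ s.snd _) hx'
    refine ⟨l, fun j => ?_, fun m hm => ?_⟩
    · refine Basic.hom_ext (s.sq j) ?_ ?_
      · rw [Functor.map_comp, Category.assoc, s.proj_fst, ← Category.assoc, hl, hx]
      · rw [Category.assoc, s.proj_snd, hl', hsnd j]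
    · refine Basic.hom_ext sq ?_ ?_
      · rw [hl]
        refine (isLimitWhisker (i := i) hc).hom_ext fun j => ?_
        change ((yon S).map m ≫ a) ≫ c.π.app j.left = x ≫ c.π.app j.left
        rw [hx, Category.assoc, ← s.proj_fst sq j, ← Category.assoc, ← Functor.map_comp, hm]
      · rw [hl', ← s.proj_snd sq (Over.mk (𝟙 i)), ← Category.assoc, hm]
  exact
    { lift := fun t => (key t).choose
      fac := fun t j => (key t).choose_spec.1 j
      uniq := fun t m hm => (key t).choose_spec.2 m hm }

/-- the same on underlying schemes -/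
noncomputable def isLimitConeLeft [IsCofiltered I] (hc : IsLimit c) :
    IsLimit ((Over.forget S).mapCone (s.cone sq)) :=
  have : IsConnected (Over i) := IsCofiltered.isConnected _
  isLimitOfPreserves (Over.forget S) (s.isLimitCone sq hc)

/-- A limit of the pulled back system represents `c.pt ×_{D_i} h_U`. -/
theorem exists_isPullback_of_isLimit [IsCofiltered I] (hc : IsLimit c) (t : Cone s.W) (ht : IsLimit t) :
    ∃ (a : (yon S).obj t.pt ⟶ c.pt) (b : t.pt ⟶ U), IsPullback a ((yon S).map b) (c.π.app i) p ∧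
      (∀ j, a ≫ c.π.app j.left = (yon S).map (t.π.app j) ≫ s.fst j) ∧ ∀ j, t.π.app j ≫ s.snd j = b := by
  obtain ⟨x, hx, hx', hsnd⟩ := s.exists_toLimit hc t
  refine ⟨x, t.π.app (Over.mk (𝟙 i)) ≫ s.snd _, ?_, hx, hsnd⟩
  refine K613.Basic.isPullback_of_yon hx' fun T y z hyz => ?_
  obtain ⟨z, rfl⟩ := (yon S).map_surjective z
  have key : ∀ j : Over i, ∃ l : T ⟶ s.obj j, (yon S).map l ≫ s.fst j = y ≫ c.π.app j.left ∧ l ≫ s.snd j = z :=
    fun j => Basic.exists_lift (s.sq j) (y ≫ c.π.app j.left) z (by rw [Category.assoc, c.w, hyz])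
  choose l hl hl' using key
  let d : Cone s.W :=
    { pt := T
      π :=
        { app := l
          naturality := fun {j k} f => by
            change 𝟙 T ≫ l k = l j ≫ s.tr f
            rw [Category.id_comp]
            refine Basic.hom_ext (s.sq k) ?_ ?_
            · rw [hl, Functor.map_comp, Category.assoc, tr_fst, ← Category.assoc, hl, Category.assoc, c.w]
            · rw [hl', Category.assoc, tr_snd, hl'] } }
  have hd : ∀ j, ht.lift d ≫ t.π.app j = l j := fun j => ht.fac d j
  refine ⟨(yon S).map (ht.lift d), ⟨?_, ?_⟩, fun m hm => ?_⟩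
  · refine (isLimitWhisker (i := i) hc).hom_ext fun j => ?_
    change ((yon S).map (ht.lift d) ≫ x) ≫ c.π.app j.left = y ≫ c.π.app j.left
    rw [Category.assoc, hx, ← Category.assoc, ← Functor.map_comp, hd, hl]
  · rw [← Functor.map_comp, ← Category.assoc, hd, hl']
  · obtain ⟨hm1, hm2⟩ := hm
    obtain ⟨m, rfl⟩ := (yon S).map_surjective m
    congr 1
    refine ht.hom_ext fun j => ?_
    rw [hd]
    refine Basic.hom_ext (s.sq j) ?_ ?_
    · rw [hl, Functor.map_comp, Category.assoc, ← hx, ← Category.assoc, hm1]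
    · rw [hl', Category.assoc, hsnd]
      apply (yon S).map_injective
      rw [Functor.map_comp]
      exact hm2

/-! ### Existence of the limit -/

theorem isAffineHom_map_of_isAffine (h : ∀ j, IsAffine (s.obj j).left) {j k : Over i} (f : j ⟶ k) :
    IsAffineHom ((s.W ⋙ Over.forget S).map f) := by
  have h1 : IsAffine ((s.W ⋙ Over.forget S).obj j) := h j
  have h2 : IsAffine ((s.W ⋙ Over.forget S).obj k) := h k
  infer_instance

theorem isAffineHom_map (hD : ∀ (i j : I) (φ : i ⟶ j), RepWith @IsAffineHom (D.map φ)) {j k : Over i} (f : j ⟶ k) :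
    IsAffineHom ((s.W ⋙ Over.forget S).map f) :=
  (hD _ _ f.left).2 _ _ _ (s.isPullback_map f)

/-- the limit of the pulled back system exists as soon as the transition maps are affine. -/
theorem exists_isLimit [IsCofiltered I]
    (h : ∀ {j k : Over i} (f : j ⟶ k), IsAffineHom ((s.W ⋙ Over.forget S).map f)) :
    ∃ (t : Cone s.W), Nonempty (IsLimit t) := by
  have : IsConnected (Over i) := IsCofiltered.isConnected _
  have : ∀ (j k : Over i) (f : j ⟶ k), IsAffineHom ((s.W ⋙ Over.forget S).map f) := fun _ _ f => h f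
  have h1 : HasLimit (s.W ⋙ Over.forget S) := Groth.Agent.S2151.hasLimit _
  have h2 : HasLimit s.W := hasLimit_of_created s.W (Over.forget S)
  exact ⟨limit.cone s.W, ⟨limit.isLimit s.W⟩⟩

end Sys

end K600.LimSys
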