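import Groth.Prelude.Def_AlgSp2
import Groth.Agent.AlgSp.K600.LimSys
import Groth.Agent.AlgSp.K609.Points

/-!
# Limits of systems with affine transition maps: projections are affine, affine charts, points
-/

universe u

open CategoryTheory CategoryTheory.Limits AlgebraicGeometry Opposite
open AlgSp

set_option backward.isDefEq.respectTransparency false

namespace K600.LimAff

open K600.LimSys

variable {S : Scheme.{u}} {I : Type u} [SmallCategory I] {D : I ⥤ Sp S} {i : I} {U : Over S}
  {p : (yon S).obj U ⟶ D.obj i}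

/-- A quasi-compact sheaf has an affine etale surjective chart. -/
theorem exists_affine_chart {F : Sp S} (hF : IsQuasiCompactSp F) :
    ∃ (U : Over S) (p : (yon S).obj U ⟶ F), IsAffine U.left ∧ RepWith @Etale p ∧ RepWith @Surjective p := by
  obtain ⟨V, p, h1, h2, h3⟩ := hF
  obtain ⟨Y, q, hq1, hq2, hq3⟩ := Scheme.exists_hom_isAffine_of_isZariskiLocalAtSource (P := @Etale) V.left
  let U : Over S := Over.mk (q ≫ V.hom)
  let q' : U ⟶ V := Over.homMk q rfl
  refine ⟨U, (yon S).map q' ≫ p, hq3, ?_, ?_⟩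
  · exact (repWith_isMultiplicative (S := S) @Etale).comp_mem _ _ ((repWith_yon_map_iff _ _).2 hq2) h1
  · exact (repWith_isMultiplicative (S := S) @Surjective).comp_mem _ _ ((repWith_yon_map_iff _ _).2 hq1) h2

section

variable (s : Sys D i p)

theorem repWith_fst {P : MorphismProperty Scheme.{u}} (hp : RepWith P p) (j : Over i) : RepWith P (s.fst j) :=
  (repWith_isStableUnderBaseChange (S := S) P).of_isPullback (s.sq j).flip hp

theorem repWith_of_isPullback {P : MorphismProperty Scheme.{u}} (hp : RepWith P p) {c : Cone D} {V : Over S}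
    {a : (yon S).obj V ⟶ c.pt} {b : V ⟶ U} (sq : IsPullback a ((yon S).map b) (c.π.app i) p) : RepWith P a :=
  (repWith_isStableUnderBaseChange (S := S) P).of_isPullback sq.flip hp

end

/-- The pulled back system and its limit, for an affine chart. -/
theorem exists_sys_of_affine [IsCofiltered I] (hDa : ∀ (i j : I) (φ : i ⟶ j), IsAffineMor (D.map φ))
    {c : Cone D} (hc : IsLimit c) (hU : IsAffine U.left) (p : (yon S).obj U ⟶ D.obj i) :
    ∃ (s : Sys D i p) (V : Over S) (a : (yon S).obj V ⟶ c.pt) (b : V ⟶ U),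
      (∀ j, IsAffine (s.obj j).left) ∧ IsAffine V.left ∧ IsPullback a ((yon S).map b) (c.π.app i) p := by
  obtain ⟨s, hs⟩ := Sys.exists_ofAffine hDa hU p
  obtain ⟨t, ⟨ht⟩⟩ := s.exists_isLimit (fun {j k} f => s.isAffineHom_map_of_isAffine hs f)
  obtain ⟨a, b, sq, -, -⟩ := s.exists_isPullback_of_isLimit hc t ht
  refine ⟨s, t.pt, a, b, hs, ?_, sq⟩
  have : IsConnected (Over i) := IsCofiltered.isConnected _
  have h1 : IsLimit ((Over.forget S).mapCone t) := isLimitOfPreserves (Over.forget S) ht
  have : ∀ j, IsAffine ((s.W ⋙ Over.forget S).obj j) := hs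
  exact Scheme.isAffine_of_isLimit _ h1

/-- The projections of a limit of a cofiltered system with affine transition maps are affine. -/
theorem isAffineMor_π [IsCofiltered I] (hDa : ∀ (i j : I) (φ : i ⟶ j), IsAffineMor (D.map φ))
    {c : Cone D} (hc : IsLimit c) (i : I) : IsAffineMor (c.π.app i) := by
  intro Z hZ g
  obtain ⟨s, V, a, b, -, hV, sq⟩ := exists_sys_of_affine hDa hc hZ g
  exact ⟨V, b, a, sq, hV⟩

theorem nonempty_iff_of_surjective {F : Sp S} {V : Over S} {a : (yon S).obj V ⟶ F} (ha : RepWith @Surjective a) :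
    Nonempty V.left ↔ Nonempty (Points F) := by
  constructor
  · rintro ⟨v⟩; exact ⟨Points.ofPt a v⟩
  · rintro ⟨x⟩
    obtain ⟨v, -⟩ := K609.Points.surjective_ofPt_of_repWith_surjective ha x
    exact ⟨v⟩

theorem nonempty_points_limit [IsCofiltered I] (hDa : ∀ (i j : I) (φ : i ⟶ j), IsAffineMor (D.map φ))
    {c : Cone D} (hc : IsLimit c) (hqc : ∀ i, IsQuasiCompactSp (D.obj i)) (hne : ∀ i, Nonempty (Points (D.obj i))) :
    Nonempty (Points c.pt) := by
  obtain ⟨i⟩ := IsCofiltered.nonempty (C := I)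
  obtain ⟨U, p, hU, hp, hp'⟩ := exists_affine_chart (hqc i)
  obtain ⟨s, V, a, b, hs, hV, sq⟩ := exists_sys_of_affine hDa hc hU p
  rw [← nonempty_iff_of_surjective (repWith_of_isPullback hp' sq)]
  have h1 := s.isLimitConeLeft sq hc
  have : ∀ j, IsAffine ((s.W ⋙ Over.forget S).obj j) := hs
  have : ∀ {j k : Over i} (f : j ⟶ k), IsAffineHom ((s.W ⋙ Over.forget S).map f) :=
    fun f => s.isAffineHom_map_of_isAffine hs f
  have : ∀ j, Nonempty ((s.W ⋙ Over.forget S).obj j) := fun j =>
    (nonempty_iff_of_surjective (repWith_fst s hp' j)).2 (hne _)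
  exact Scheme.nonempty_of_isLimit _ _ h1

end K600.LimAff
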