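import Groth.Prelude.Def_AlgSp4
import Groth.Agent.AlgSp.K600.Basic
import Groth.Agent.AlgSp.K613.Cover
import Groth.Agent.AlgSp.K606.FppfRepOver
import Groth.Agent.AlgSp.K597.EffDesc

/-!
# A criterion for a quotient of an affine scheme by an etale equivalence relation to be a scheme

`p : h_U ⟶ F` surjective with `U` affine, kernel pair `R ⇉ U`, `q : T₀ ⟶ Q` flat surjective of finite
presentation, `g : U ⟶ T₀` with `R = U ×_Q T₀`.  Then `F` is representable.
-/

universe u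

open CategoryTheory CategoryTheory.Limits AlgebraicGeometry Opposite
open AlgSp

set_option backward.isDefEq.respectTransparency false

namespace K600.RepCrit

variable {S : Scheme.{u}}

/-- `S × Q` as a scheme over `S`. -/
noncomputable abbrev SQ (S Q : Scheme.{u}) : Over S := Over.mk (prod.fst : S ⨯ Q ⟶ S)

/-- `S × T₀ ⟶ S × Q`. -/
noncomputable abbrev SQmap (S : Scheme.{u}) {T₀ Q : Scheme.{u}} (q : T₀ ⟶ Q) : SQ S T₀ ⟶ SQ S Q :=
  Over.homMk (prod.map (𝟙 S) q)

/-- a map to `Q` as a map to `S × Q` over `S`. -/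
noncomputable abbrev toSQ {U : Over S} {Q : Scheme.{u}} (g : U.left ⟶ Q) : U ⟶ SQ S Q :=
  Over.homMk (prod.lift U.hom g)

theorem isPullback_SQmap {T₀ Q : Scheme.{u}} (q : T₀ ⟶ Q) :
    IsPullback (prod.snd : S ⨯ T₀ ⟶ T₀) (prod.map (𝟙 S) q) q (prod.snd : S ⨯ Q ⟶ Q) := by
  refine ⟨⟨by simp⟩, ⟨PullbackCone.IsLimit.mk _ (fun s => prod.lift (s.snd ≫ prod.fst) s.fst) ?_ ?_ ?_⟩⟩
  · intro s; simp
  · intro s
    apply Limits.prod.hom_ext
    · simp
    · simp [s.condition]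
  · intro s m h1 h2
    apply Limits.prod.hom_ext
    · simp [← h2]
    · simpa using h1

theorem hom_ext_SQ {U : Over S} {Q : Scheme.{u}} {a b : U ⟶ SQ S Q} (h : a.left ≫ prod.snd = b.left ≫ prod.snd) :
    a = b := by
  ext1
  apply Limits.prod.hom_ext
  · have h1 := Over.w a
    have h2 := Over.w b
    exact h1.trans h2.symm
  · exact h

theorem isPullback_over' {A B C D : Over S} {f : A ⟶ B} {g : A ⟶ C} {h : B ⟶ D} {k : C ⟶ D}
    (sq : IsPullback f.left g.left h.left k.left) : IsPullback f g h k := by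
  have : (Over.forget S).ReflectsIsomorphisms := inferInstance
  exact IsPullback.of_map (Over.forget S) (by ext1; exact sq.w) sq

open K613.Cover

/-- If `R = U ×_Q T₀`, then `h_U = F ×_{S × Q} (S × T₀)`. -/
theorem exists_isPullback {F : Sp S} {U : Over S} (p : (yon S).obj U ⟶ F) (hp : FSurj p) {R : Over S}
    {r₁ r₂ : R ⟶ U} (hR : IsPullback ((yon S).map r₁) ((yon S).map r₂) p p) {T₀ Q : Scheme.{u}} (q : T₀ ⟶ Q)
    (g : U.left ⟶ T₀) (hg : IsPullback r₁.left (r₂.left ≫ g) (g ≫ q) q) :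
    ∃ f : F ⟶ (yon S).obj (SQ S Q), p ≫ f = (yon S).map (toSQ (g ≫ q)) ∧
      IsPullback p ((yon S).map (toSQ g)) f ((yon S).map (SQmap S q)) := by
  have hw : r₁.left ≫ g ≫ q = r₂.left ≫ g ≫ q := by rw [hg.w, Category.assoc]
  have hw' : r₁ ≫ (toSQ (g ≫ q) : U ⟶ SQ S Q) = r₂ ≫ toSQ (g ≫ q) := by
    apply hom_ext_SQ
    simpa using hw
  -- the map `f`
  obtain ⟨f, hf, -⟩ := hp.desc ((yon S).map (toSQ (g ≫ q) : U ⟶ SQ S Q)) (by
    intro Z u v huv
    obtain ⟨l, hl1, hl2⟩ : ∃ l : (yon S).obj Z ⟶ (yon S).obj R, l ≫ (yon S).map r₁ = u ∧ l ≫ (yon S).map r₂ = v :=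
      ⟨hR.lift _ _ huv, hR.lift_fst _ _ _, hR.lift_snd _ _ _⟩
    rw [← hl1, ← hl2, Category.assoc, Category.assoc, ← Functor.map_comp, hw', Functor.map_comp])
  refine ⟨f, hf, ?_⟩
  -- `R = U ×_{S × Q} (S × T₀)`
  have hsq1 : IsPullback r₁ (r₂ ≫ toSQ g) (toSQ (g ≫ q)) (SQmap S q) := by
    apply isPullback_over'
    have h1 := (isPullback_SQmap (S := S) q)
    have h2 : IsPullback ((r₂ ≫ toSQ g).left ≫ prod.snd) r₁.left q ((toSQ (g ≫ q) : U ⟶ SQ S Q).left ≫ prod.snd) := by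
      simpa using hg.flip
    refine (IsPullback.of_right h2 ?_ h1).flip
    apply Limits.prod.hom_ext
    · simp
    · simpa using hw.symm
  have hsq2 := hsq1.map (yon S)
  have hc0 : p ≫ f = (yon S).map (toSQ g) ≫ (yon S).map (SQmap S q) := by
    rw [hf, ← Functor.map_comp]
    congr 1
    apply hom_ext_SQ
    simp
  let G := pullback f ((yon S).map (SQmap S q))
  let t : (yon S).obj U ⟶ G := pullback.lift p ((yon S).map (toSQ g)) hc0
  have ht1 : t ≫ pullback.fst _ _ = p := pullback.lift_fst _ _ _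
  have ht2 : t ≫ pullback.snd _ _ = (yon S).map (toSQ g) := pullback.lift_snd _ _ _
  -- `R ⟶ G` is locally surjective
  have h3 : IsPullback ((yon S).map r₂ ≫ t) ((yon S).map r₁) (pullback.fst f ((yon S).map (SQmap S q))) p := by
    refine IsPullback.of_right (h₁₂ := pullback.snd _ _) (h₂₂ := f) (v₁₃ := (yon S).map (SQmap S q)) ?_ ?_
      (IsPullback.of_hasPullback f ((yon S).map (SQmap S q))).flip
    · rw [Category.assoc, ht2, ← Functor.map_comp, hf]
      exact hsq2.flip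
    · rw [Category.assoc, ht1, hR.w]
  have h4 : FSurj ((yon S).map r₂ ≫ t) := hp.of_isPullback h3.flip
  have h5 : FSurj t := h4.of_comp
  have h6 : Mono t := by
    refine K613.Basic.mono_of_injective fun Z u v huv => ?_
    have e1 : u ≫ p = v ≫ p := by rw [← ht1, ← Category.assoc, huv, Category.assoc]
    have e2 : u ≫ (yon S).map (toSQ g) = v ≫ (yon S).map (toSQ g : U ⟶ SQ S T₀) := by
      rw [← ht2, ← Category.assoc, huv, Category.assoc]
    obtain ⟨l, hl1, hl2⟩ : ∃ l : (yon S).obj Z ⟶ (yon S).obj R, l ≫ (yon S).map r₁ = u ∧ l ≫ (yon S).map r₂ = v :=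
      ⟨hR.lift _ _ e1, hR.lift_fst _ _ _, hR.lift_snd _ _ _⟩
    obtain ⟨d, hd1, hd2⟩ : ∃ l : (yon S).obj Z ⟶ (yon S).obj R, l ≫ (yon S).map r₁ = u ∧ l ≫ (yon S).map r₂ = u :=
      ⟨hR.lift _ _ rfl, hR.lift_fst _ _ _, hR.lift_snd _ _ _⟩
    have e3 : l = d := by
      apply hsq2.hom_ext
      · rw [hl1, hd1]
      · rw [Functor.map_comp, ← Category.assoc, hl2, ← Category.assoc, hd2, e2]
    rw [← hd2, ← e3, hl2]
  have h7 : IsIso t := h5.isIso_of_mono
  exact IsPullback.of_iso (IsPullback.of_hasPullback f ((yon S).map (SQmap S q))) (asIso t).symm (Iso.refl _)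
    (Iso.refl _) (Iso.refl _) (by simp [← ht1]) (by simp [← ht2]) (by simp) (by simp)

/-- A quotient sheaf `F = U / R` of an affine scheme with `R = U ×_Q T₀`, `T₀ ⟶ Q` flat surjective of finite
presentation, is a scheme. -/
theorem exists_rep {F : Sp S} {U : Over S} (hU : IsAffine U.left) (p : (yon S).obj U ⟶ F) (hp : FSurj p)
    {R : Over S} {r₁ r₂ : R ⟶ U} (hR : IsPullback ((yon S).map r₁) ((yon S).map r₂) p p) {T₀ Q : Scheme.{u}}
    (q : T₀ ⟶ Q) [Flat q] [LocallyOfFinitePresentation q] [Surjective q]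
    (g : U.left ⟶ T₀) (hg : IsPullback r₁.left (r₂.left ≫ g) (g ≫ q) q) :
    ∃ X : Over S, Nonempty ((yon S).obj X ≅ F) := by
  obtain ⟨f, -, sq⟩ := exists_isPullback p hp hR q g hg
  have hq := (isPullback_SQmap (S := S) q)
  have h1 : Flat (prod.map (𝟙 S) q) := MorphismProperty.of_isPullback hq ‹_›
  have h2 : LocallyOfFinitePresentation (prod.map (𝟙 S) q) := MorphismProperty.of_isPullback hq ‹_›
  have h3 : Surjective (prod.map (𝟙 S) q) := MorphismProperty.of_isPullback hq ‹_›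
  refine K606.FppfRepOver.exists_iso_of_fppf f fun t => ?_
  exact ⟨SQ S T₀, SQmap S q, h1, h2, h3.surj t, U, toSQ g, p, sq, fun O hO =>
    K597.EffDesc.isQuasiAffine_open O hO⟩

end K600.RepCrit
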