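import Groth.Prelude.Def_AlgSp4
import Groth.Agent.AlgSp.K600.LimAff
import Groth.Agent.AlgSp.K600.RepCrit
import Groth.Agent.AlgSp.K600.ApproxFlat
import Groth.Agent.AlgSp.K597.Affine
import Groth.Agent.AlgSp.K609.Sep
import Groth.Agent.AlgSp.K595.DiagAlg
import Groth.Agent.S2578

/-!
# A limit of quasi-compact quasi-separated algebraic spaces is a scheme only if some stage is a scheme
-/

universe u

open CategoryTheory CategoryTheory.Limits AlgebraicGeometry Opposite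
open AlgSp

set_option backward.isDefEq.respectTransparency false

namespace K600.LimRep

open K600.LimSys K600.LimAff K613.Cover

/-- Base change of a kernel pair. -/
theorem exists_kp_lift {C : Type*} [Category C] {X X' U U' R R' : C} {φ : X' ⟶ X} {p : U ⟶ X} {p' : U' ⟶ X'}
    {u : U' ⟶ U} (sq : IsPullback p' u φ p) {r₁ r₂ : R ⟶ U} (hR : IsPullback r₁ r₂ p p) {r₁' r₂' : R' ⟶ U'}
    (hR' : IsPullback r₁' r₂' p' p') :
    ∃ ρ : R' ⟶ R, ρ ≫ r₁ = r₁' ≫ u ∧ ρ ≫ r₂ = r₂' ≫ u ∧ IsPullback r₁' ρ u r₁ ∧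
      IsPullback (r₁' ≫ p') ρ φ (r₁ ≫ p) := by
  have hw : (r₁' ≫ u) ≫ p = (r₂' ≫ u) ≫ p := by
    rw [Category.assoc, Category.assoc, ← sq.w, ← Category.assoc, ← Category.assoc, hR'.w]
  refine ⟨hR.lift _ _ hw, hR.lift_fst _ _ _, hR.lift_snd _ _ _, ?_, ?_⟩
  · refine (IsPullback.of_right (h₁₂ := r₂) (h₂₂ := p) (v₁₃ := p) ?_ (hR.lift_fst _ _ _) hR.flip).flip
    rw [hR.lift_snd, ← sq.w]
    exact hR'.flip.paste_horiz sq.flip
  · have h1 : IsPullback r₁' (hR.lift _ _ hw) u r₁ := by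
      refine (IsPullback.of_right (h₁₂ := r₂) (h₂₂ := p) (v₁₃ := p) ?_ (hR.lift_fst _ _ _) hR.flip).flip
      rw [hR.lift_snd, ← sq.w]
      exact hR'.flip.paste_horiz sq.flip
    exact h1.paste_horiz sq

variable {S : Scheme.{u}}

/-- kernel pairs in `Sp S` with representable members. -/
theorem exists_kp_lift_yon {X X' : Sp S} {U U' R R' : Over S} {φ : X' ⟶ X} {p : (yon S).obj U ⟶ X}
    {p' : (yon S).obj U' ⟶ X'} {u : U' ⟶ U} (sq : IsPullback p' ((yon S).map u) φ p) {r₁ r₂ : R ⟶ U}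
    (hR : IsPullback ((yon S).map r₁) ((yon S).map r₂) p p) {r₁' r₂' : R' ⟶ U'}
    (hR' : IsPullback ((yon S).map r₁') ((yon S).map r₂') p' p') :
    ∃ ρ : R' ⟶ R, ρ ≫ r₁ = r₁' ≫ u ∧ ρ ≫ r₂ = r₂' ≫ u ∧ IsPullback r₁' ρ u r₁ ∧
      IsPullback ((yon S).map r₁' ≫ p') ((yon S).map ρ) φ ((yon S).map r₁ ≫ p) := by
  obtain ⟨ρ', h1, h2, h3, h4⟩ := exists_kp_lift sq hR hR'
  obtain ⟨ρ, rfl⟩ := (yon S).map_surjective ρ'
  refine ⟨ρ, (yon S).map_injective (by simpa using h1), (yon S).map_injective (by simpa using h2), ?_, h4⟩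
  exact IsPullback.of_map_of_faithful (yon S) h3

theorem isPullback_left {A B C D : Over S} {f : A ⟶ B} {g : A ⟶ C} {h : B ⟶ D} {k : C ⟶ D}
    (sq : IsPullback f g h k) : IsPullback f.left g.left h.left k.left := sq.map (Over.forget S)

theorem left_assoc {A B C : Over S} {f : A ⟶ B} {g : B ⟶ C} {h : A ⟶ C} (e : f ≫ g = h) {Z : Scheme.{u}}
    (x : C.left ⟶ Z) : f.left ≫ g.left ≫ x = h.left ≫ x := by
  rw [← e, Over.comp_left, Category.assoc]

theorem left_assoc' {A B B' C : Over S} {f : A ⟶ B} {g : B ⟶ C} {f' : A ⟶ B'} {g' : B' ⟶ C}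
    (e : f ≫ g = f' ≫ g') {Z : Scheme.{u}} (x : C.left ⟶ Z) :
    f.left ≫ g.left ≫ x = f'.left ≫ g'.left ≫ x := by
  rw [left_assoc e, left_assoc rfl]

section Kp

variable {I : Type u} [SmallCategory I] {D : I ⥤ Sp S} {i : I} {U : Over S} {p : (yon S).obj U ⟶ D.obj i}

/-- The system of kernel pairs of the charts `W_j ⟶ D_j`. -/
theorem exists_kpSys (hD : ∀ i, IsAlgSpace (D.obj i)) (s : Sys D i p) {R : Over S} {r₁ r₂ : R ⟶ U}
    (hR : IsPullback ((yon S).map r₁) ((yon S).map r₂) p p) :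
    ∃ (sR : Sys D i ((yon S).map r₁ ≫ p)) (k₁ k₂ : ∀ j, sR.obj j ⟶ s.obj j),
      (∀ j, IsPullback ((yon S).map (k₁ j)) ((yon S).map (k₂ j)) (s.fst j) (s.fst j)) ∧
      (∀ j, IsPullback (k₁ j) (sR.snd j) (s.snd j) r₁) ∧
      (∀ j, sR.snd j ≫ r₁ = k₁ j ≫ s.snd j) ∧ (∀ j, sR.snd j ≫ r₂ = k₂ j ≫ s.snd j) ∧
      ∀ j, sR.fst j = (yon S).map (k₁ j) ≫ s.fst j := by
  have h0 : ∀ j : Over i, ∃ (W : Over S) (k₁ k₂ : W ⟶ s.obj j) (ρ : W ⟶ R),
      IsPullback ((yon S).map k₁) ((yon S).map k₂) (s.fst j) (s.fst j) ∧ ρ ≫ r₁ = k₁ ≫ s.snd j ∧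
      ρ ≫ r₂ = k₂ ≫ s.snd j ∧ IsPullback k₁ ρ (s.snd j) r₁ ∧
      IsPullback ((yon S).map k₁ ≫ s.fst j) ((yon S).map ρ) (D.map j.hom) ((yon S).map r₁ ≫ p) := by
    intro j
    obtain ⟨W, k₁, k₂, hk⟩ := K609.Sep.exists_isPullback_yon (hD j.left).diag (s.fst j) (s.fst j)
    obtain ⟨ρ, h1, h2, h3, h4⟩ := exists_kp_lift_yon (s.sq j) hR hk
    exact ⟨W, k₁, k₂, ρ, hk, h1, h2, h3, h4⟩
  choose W k₁ k₂ ρ h1 h2 h3 h4 h5 using h0
  exact ⟨⟨W, fun j => (yon S).map (k₁ j) ≫ s.fst j, ρ, h5⟩, k₁, k₂, h1, h4, h2, h3, fun j => rfl⟩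

variable [IsCofiltered I]

/-- Two maps from the kernel pair of a chart to a scheme of finite type over `ℤ` which agree in the limit agree
at some stage. -/
theorem exists_coequalized (hD : ∀ i, IsAlgSpace (D.obj i)) (hDa : ∀ (i j : I) (φ : i ⟶ j), IsAffineMor (D.map φ))
    {c : Cone D} (hc : IsLimit c) (s : Sys D i p) (hs : ∀ j, IsAffine (s.obj j).left)
    {V : Over S} {a : (yon S).obj V ⟶ c.pt} {b : V ⟶ U} (sq : IsPullback a ((yon S).map b) (c.π.app i) p)
    {R : Over S} {r₁ r₂ : R ⟶ U} (hR : IsPullback ((yon S).map r₁) ((yon S).map r₂) p p) (hRc : CompactSpace R.left)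
    (hU : IsAffine U.left)
    {V₂ : Over S} {v₁ v₂ : V₂ ⟶ V} (hV₂ : IsPullback ((yon S).map v₁) ((yon S).map v₂) a a)
    {Q : Scheme.{u}} [LocallyOfFiniteType (specULiftZIsTerminal.from Q)] (x : U.left ⟶ Q)
    (hx : v₁.left ≫ b.left ≫ x = v₂.left ≫ b.left ≫ x) :
    ∃ j : Over i, ∀ {R' : Over S} {r₁' r₂' : R' ⟶ s.obj j},
      IsPullback ((yon S).map r₁') ((yon S).map r₂') (s.fst j) (s.fst j) →
        r₁'.left ≫ (s.snd j).left ≫ x = r₂'.left ≫ (s.snd j).left ≫ x := by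
  obtain ⟨sR, k₁, k₂, h1, h2, h3, h4, h5⟩ := exists_kpSys hD s hR
  obtain ⟨ρ, e1, e2, e3, e4⟩ := exists_kp_lift_yon sq hR hV₂
  have hlim := sR.isLimitConeLeft e4 hc
  have hAff : ∀ {j k : Over i} (f : j ⟶ k), IsAffineHom ((sR.W ⋙ Over.forget S).map f) := fun f =>
    sR.isAffineHom_map (fun i j φ => K597.Affine.isAffineMor_iff.1 (hDa i j φ)) f
  have hcomp : ∀ j, CompactSpace ((sR.W ⋙ Over.forget S).obj j) := by
    intro j
    have hsj := hs j
    have : IsAffineHom (s.snd j).left := inferInstance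
    have : IsAffineHom (sR.snd j).left := MorphismProperty.of_isPullback (isPullback_left (h2 j)) this
    exact QuasiCompact.compactSpace_of_compactSpace (sR.snd j).left
  let j1 : Over i := Over.mk (𝟙 i)
  obtain ⟨k, f, hk⟩ := Scheme.exists_hom_comp_eq_comp_of_locallyOfFiniteType (sR.W ⋙ Over.forget S)
    ({ app := fun j => specULiftZIsTerminal.from _, naturality := fun _ _ _ => specULiftZIsTerminal.hom_ext _ _ } :
      sR.W ⋙ Over.forget S ⟶ (Functor.const _).obj (Spec (.of (ULift.{u} ℤ)))) (specULiftZIsTerminal.from Q) _ hlim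
    (i := j1) ((sR.snd j1).left ≫ r₁.left ≫ x) ((sR.snd j1).left ≫ r₂.left ≫ x)
    (specULiftZIsTerminal.hom_ext _ _) (specULiftZIsTerminal.hom_ext _ _) (by
      change (sR.proj e4 j1).left ≫ (sR.snd j1).left ≫ r₁.left ≫ x =
        (sR.proj e4 j1).left ≫ (sR.snd j1).left ≫ r₂.left ≫ x
      rw [left_assoc (sR.proj_snd e4 j1), left_assoc (sR.proj_snd e4 j1), left_assoc' e1, left_assoc' e2, hx])
  refine ⟨k, fun {R' r₁' r₂'} hR' => ?_⟩
  have hk' : (sR.snd k).left ≫ r₁.left ≫ x = (sR.snd k).left ≫ r₂.left ≫ x := by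
    have hk2 : (sR.W.map f).left ≫ (sR.snd j1).left ≫ r₁.left ≫ x =
      (sR.W.map f).left ≫ (sR.snd j1).left ≫ r₂.left ≫ x := hk
    rwa [left_assoc (sR.W_map_snd f), left_assoc (sR.W_map_snd f)] at hk2
  have hk3 : (k₁ k).left ≫ (s.snd k).left ≫ x = (k₂ k).left ≫ (s.snd k).left ≫ x := by
    rw [← left_assoc' (h3 k), ← left_assoc' (h4 k), hk']
  obtain ⟨l', hl1, hl2⟩ : ∃ l : (yon S).obj R' ⟶ (yon S).obj (sR.obj k), l ≫ (yon S).map (k₁ k) = (yon S).map r₁' ∧
      l ≫ (yon S).map (k₂ k) = (yon S).map r₂' :=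
    ⟨(h1 k).lift _ _ hR'.w, (h1 k).lift_fst _ _ _, (h1 k).lift_snd _ _ _⟩
  obtain ⟨l, rfl⟩ := (yon S).map_surjective l'
  rw [← Functor.map_comp] at hl1 hl2
  have m1 := (yon S).map_injective hl1
  have m2 := (yon S).map_injective hl2
  rw [← m1, ← m2, Over.comp_left, Over.comp_left, Category.assoc, Category.assoc, hk3]

/-- The kernel pair of a chart becomes `W_j ×_Q T₀` at some stage if it does so in the limit. -/
theorem exists_isPullback_stage (hD : ∀ i, IsAlgSpace (D.obj i))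
    {c : Cone D} (hc : IsLimit c) (s : Sys D i p) (hs : ∀ j, IsAffine (s.obj j).left)
    {V : Over S} {a : (yon S).obj V ⟶ c.pt} {b : V ⟶ U} (sq : IsPullback a ((yon S).map b) (c.π.app i) p)
    {R : Over S} {r₁ r₂ : R ⟶ U} (hR : IsPullback ((yon S).map r₁) ((yon S).map r₂) p p)
    [LocallyOfFinitePresentation r₁.left] [QuasiCompact r₁.left] [QuasiSeparated r₁.left]
    {V₂ : Over S} {v₁ v₂ : V₂ ⟶ V} (hV₂ : IsPullback ((yon S).map v₁) ((yon S).map v₂) a a)
    {T₀ Q : Scheme.{u}} (q : T₀ ⟶ Q) [LocallyOfFinitePresentation q] [QuasiCompact q] [QuasiSeparated q]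
    (g : U.left ⟶ T₀) (hg : r₁.left ≫ g ≫ q = r₂.left ≫ g ≫ q)
    (hVg : IsPullback v₁.left (v₂.left ≫ b.left ≫ g) (b.left ≫ g ≫ q) q) :
    ∃ j : Over i, ∀ {R' : Over S} {r₁' r₂' : R' ⟶ s.obj j},
      IsPullback ((yon S).map r₁') ((yon S).map r₂') (s.fst j) (s.fst j) →
        IsPullback r₁'.left (r₂'.left ≫ (s.snd j).left ≫ g) ((s.snd j).left ≫ g ≫ q) q := by
  have hlim := s.isLimitConeLeft sq hc
  have hAff : ∀ (j k : Over i) (f : j ⟶ k), IsAffineHom ((s.W ⋙ Over.forget S).map f) :=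
    fun j k f => s.isAffineHom_map_of_isAffine hs f
  let j1 : Over i := Over.mk (𝟙 i)
  have hsj1 : IsAffine ((s.W ⋙ Over.forget S).obj j1) := hs j1
  obtain ⟨ρ, e1, e2, e3, -⟩ := exists_kp_lift_yon sq hR hV₂
  have hι : IsIso (s.snd j1).left := by
    have h0 := s.sq j1
    have h1 : IsIso (D.map j1.hom) := by
      change IsIso (D.map (𝟙 i))
      infer_instance
    have h2 : IsIso ((yon S).map (s.snd j1)) := h0.isIso_snd_of_isIso
    have h3 : IsIso (s.snd j1) := isIso_of_reflects_iso _ (yon S)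
    infer_instance
  let ι := (s.snd j1).left
  let f₀ : R.left ⟶ pullback (g ≫ q) q := pullback.lift r₁.left (r₂.left ≫ g) (by rw [hg, Category.assoc])
  have hf1 : f₀ ≫ pullback.fst _ _ = r₁.left := pullback.lift_fst _ _ _
  have hf2 : f₀ ≫ pullback.snd _ _ = r₂.left ≫ g := pullback.lift_snd _ _ _
  let g₀ : pullback (g ≫ q) q ⟶ (s.W ⋙ Over.forget S).obj j1 := pullback.fst _ _ ≫ inv ι
  have hg0 : g₀ ≫ ι = pullback.fst _ _ := by simp [g₀]
  have hfg : f₀ ≫ g₀ = r₁.left ≫ inv ι := by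
    rw [← Category.assoc, hf1]
  have i1 : LocallyOfFinitePresentation (f₀ ≫ g₀) := by rw [hfg]; infer_instance
  have i2 : QuasiCompact (f₀ ≫ g₀) := by rw [hfg]; infer_instance
  have i3 : QuasiSeparated (f₀ ≫ g₀) := by rw [hfg]; infer_instance
  have hπ : (s.proj sq j1).left ≫ ι = b.left := by
    change (s.proj sq j1).left ≫ (s.snd j1).left = b.left
    rw [← Over.comp_left, s.proj_snd]
  let qY : V₂.left ⟶ pullback (g ≫ q) q := pullback.lift (v₁.left ≫ b.left) (v₂.left ≫ b.left ≫ g) (by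
    rw [Category.assoc, hVg.w, Category.assoc, Category.assoc])
  have hY : IsPullback qY v₁.left g₀ (((Over.forget S).mapCone (s.cone sq)).π.app j1) := by
    change IsPullback qY v₁.left g₀ (s.proj sq j1).left
    have h1 : IsPullback (qY ≫ pullback.snd (g ≫ q) q) v₁.left q ((s.proj sq j1).left ≫ ι ≫ g ≫ q) := by
      rw [← Category.assoc _ ι, hπ, pullback.lift_snd]
      exact hVg.flip
    refine IsPullback.of_right h1 ?_ ?_
    · rw [← cancel_mono ι, Category.assoc, hg0, pullback.lift_fst, Category.assoc, hπ]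
    · refine IsPullback.of_iso (IsPullback.of_hasPullback (g ≫ q) q).flip (Iso.refl _) (Iso.refl _) (asIso ι).symm
        (Iso.refl _) (by simp) (by simp [g₀]) (by simp) (by simp)
  have hX : IsPullback ρ.left (𝟙 V₂.left) f₀ qY := by
    refine IsPullback.of_bot (v₂₁ := v₁.left) (v₂₂ := g₀) (h₃₁ := (s.proj sq j1).left) ?_ ?_ hY
    · rw [Category.id_comp, hfg]
      have h1 := (isPullback_left e3).flip
      refine IsPullback.of_iso h1 (Iso.refl _) (Iso.refl _) (Iso.refl _) (asIso ι).symm (by simp) (by simp)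
        (by simp) ?_
      simp [← hπ]
    · apply pullback.hom_ext
      · rw [Category.assoc, hf1, Category.id_comp, pullback.lift_fst, ← Over.comp_left, e1, Over.comp_left]
      · rw [Category.assoc, hf2, Category.id_comp, pullback.lift_snd, ← Category.assoc, ← Over.comp_left, e2,
          Over.comp_left, Category.assoc]
  obtain ⟨j, φ, Xi, Yi, fi, gi, pY, pX, hh1, hh2, hh3⟩ := Groth.Agent.S2578.result (s.W ⋙ Over.forget S) _ hlim j1
    f₀ g₀ (𝟙 V₂.left) v₁.left qY ρ.left hY hX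
  refine ⟨j, fun {R' r₁' r₂'} hR' => ?_⟩
  obtain ⟨ρ', m1, m2, m3, -⟩ := exists_kp_lift_yon (s.sq j) hR hR'
  have hφ : (s.W ⋙ Over.forget S).map φ ≫ ι = (s.snd j).left := by
    change (s.W.map φ).left ≫ (s.snd j1).left = (s.snd j).left
    rw [← Over.comp_left, s.W_map_snd]
  have h5 : IsPullback pX (fi ≫ gi) (f₀ ≫ g₀) ((s.W ⋙ Over.forget S).map φ) := hh2.paste_vert hh1
  have h6 : IsPullback ρ'.left r₁'.left (f₀ ≫ g₀) ((s.W ⋙ Over.forget S).map φ) := by
    rw [hfg]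
    refine IsPullback.of_iso (isPullback_left m3).flip (Iso.refl _) (Iso.refl _) (Iso.refl _) (asIso ι).symm
      (by simp) (by simp) (by simp) ?_
    simp [← hφ]
  let e := h6.isoIsPullback _ _ h5
  have he1 : e.hom ≫ pX = ρ'.left := IsPullback.isoIsPullback_hom_fst ..
  have he2 : e.hom ≫ fi ≫ gi = r₁'.left := IsPullback.isoIsPullback_hom_snd ..
  have h7 : IsPullback (pullback.snd (g ≫ q) q) g₀ q (ι ≫ g ≫ q) :=
    IsPullback.of_iso (IsPullback.of_hasPullback (g ≫ q) q).flip (Iso.refl _) (Iso.refl _) (asIso ι).symm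
      (Iso.refl _) (by simp) (by simp [g₀]) (by simp) (by simp)
  have h8 := hh1.paste_horiz h7
  rw [← Category.assoc _ ι, hφ] at h8
  refine IsPullback.of_iso h8.flip (e ≪≫ asIso fi).symm (Iso.refl _) (Iso.refl _) (Iso.refl _) ?_ ?_ (by simp) (by simp)
  · rw [Iso.refl_hom, Category.comp_id, Iso.symm_hom, Iso.eq_inv_comp, Iso.trans_hom, asIso_hom, Category.assoc, he2]
  · rw [Iso.refl_hom, Category.comp_id, Iso.symm_hom, Iso.eq_inv_comp, Iso.trans_hom, asIso_hom, Category.assoc,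
      ← Category.assoc fi, ← hh2.w, Category.assoc, hf2, ← Category.assoc, he1, left_assoc' m2]

end Kp

/-- The kernel pair of an affine chart of a quasi-separated algebraic space. -/
theorem exists_kp [QuasiSeparatedSpace ↥S] {F : Sp S} (hF : IsAlgSpace F) (hqs : IsQuasiSeparatedSp F) {U : Over S}
    (hU : IsAffine U.left) {p : (yon S).obj U ⟶ F} (hp : RepWith @Etale p) :
    ∃ (R : Over S) (r₁ r₂ : R ⟶ U), IsPullback ((yon S).map r₁) ((yon S).map r₂) p p ∧ CompactSpace R.left ∧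
      Etale r₁.left ∧ QuasiCompact r₁.left ∧ QuasiSeparated r₁.left := by
  obtain ⟨R, r₁, r₂, hR⟩ := K609.Sep.exists_isPullback_yon hF.diag p p
  have hc : CompactSpace R.left := K609.Sep.compactSpace_pullback hqs hR
  have h1 : Etale r₁.left := hp.2 _ _ _ hR.flip
  have h2 : IsSeparated (pullback.lift r₁.left r₂.left ((Over.w r₁).trans (Over.w r₂).symm) :
      R.left ⟶ pullback U.hom U.hom) := K609.Diag.prop_of_repWith_diag @IsSeparated
        (K595.DiagAlg.repWith_isSeparated_of_mono (K595.DiagAlg.repWith_diag_mono hF)) hR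
  have h3 : IsSeparated (pullback.lift r₁.left r₂.left ((Over.w r₁).trans (Over.w r₂).symm) ≫
      pullback.fst U.hom U.hom) := inferInstance
  rw [pullback.lift_fst] at h3
  exact ⟨R, r₁, r₂, hR, hc, h1, inferInstance, inferInstance⟩

variable {I : Type u} [SmallCategory I] [IsCofiltered I] {D : I ⥤ Sp S}

/-- A scheme which is a limit of quasi-compact quasi-separated algebraic spaces is qcqs. -/
theorem compact_qs_of_limit [QuasiSeparatedSpace ↥S] (hD : ∀ i, IsAlgSpace (D.obj i))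
    {c : Cone D} {i : I} (hqs : IsQuasiSeparatedSp (D.obj i))
    {U : Over S} (hU : IsAffine U.left) {p : (yon S).obj U ⟶ D.obj i} (hp : RepWith @Etale p)
    (hp' : RepWith @Surjective p) {V : Over S} (hV : IsAffine V.left) {a : (yon S).obj V ⟶ c.pt} {b : V ⟶ U}
    (sq : IsPullback a ((yon S).map b) (c.π.app i) p) (T : Over S) (e : (yon S).obj T ≅ c.pt) (h : V ⟶ T)
    (hh : (yon S).map h ≫ e.hom = a) : Etale h.left ∧ Surjective h.left ∧ CompactSpace T.left ∧
      QuasiSeparatedSpace T.left := by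
  have ha : RepWith @Etale a := repWith_of_isPullback hp sq
  have ha' : RepWith @Surjective a := repWith_of_isPullback hp' sq
  have hh' : (yon S).map h = a ≫ e.inv := by rw [← hh]; simp
  have h1 : RepWith @Etale ((yon S).map h) := by
    rw [hh']; exact MorphismProperty.RespectsIso.postcomp _ _ _ ha
  have h2 : RepWith @Surjective ((yon S).map h) := by
    rw [hh']; exact MorphismProperty.RespectsIso.postcomp _ _ _ ha'
  have h3 : Etale h.left := (repWith_yon_map_iff _ _).1 h1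
  have h4 : Surjective h.left := (repWith_yon_map_iff _ _).1 h2
  have h5 : CompactSpace T.left := Function.Surjective.compactSpace h.left.continuous h4.surj
  have h6 : IsPullback ((yon S).map (pullback.fst h h)) ((yon S).map (pullback.snd h h)) ((yon S).map h)
      ((yon S).map h) := (IsPullback.of_hasPullback h h).map (yon S)
  have h7 : IsPullback ((yon S).map (pullback.fst h h)) ((yon S).map (pullback.snd h h)) a a := by
    refine IsPullback.of_iso h6 (Iso.refl _) (Iso.refl _) (Iso.refl _) e (by simp) (by simp) ?_ ?_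
    · simpa using hh
    · simpa using hh
  have h8 : CompactSpace (pullback h h).left := by
    have h9 : IsPullback ((yon S).map (pullback.fst h h)) ((yon S).map (pullback.snd h h ≫ b)) (a ≫ c.π.app i) p := by
      rw [Functor.map_comp]
      exact (h7.flip.paste_horiz sq.flip).flip
    exact K609.Sep.compactSpace_pullback hqs h9
  have h10 : QuasiCompact (pullback.fst h h).left := inferInstance
  have h11 : IsQuasiSeparatedSp ((yon S).obj T) :=
    K609.Sep.isQuasiSeparatedSp_of_chart (IsAlgSpace.yon_obj T) h1 h2 h6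
  have h12 : QuasiCompact (pullback.diagonal T.hom) := (repWith_diag_yon_iff @QuasiCompact T).1 h11
  have h13 : QuasiSeparated T.hom := ⟨h12⟩
  exact ⟨h3, h4, h5, quasiSeparatedSpace_of_quasiSeparated T.hom⟩

/-- If the limit is a scheme, then some stage is a scheme. -/
theorem exists_rep_of_limit [QuasiSeparatedSpace ↥S] (hD : ∀ i, IsAlgSpace (D.obj i))
    (hDa : ∀ (i j : I) (φ : i ⟶ j), IsAffineMor (D.map φ)) {c : Cone D} (hc : IsLimit c)
    (hqc : ∀ i, IsQuasiCompactSp (D.obj i)) (hqs : ∀ i, IsQuasiSeparatedSp (D.obj i))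
    (T : Over S) (e : (yon S).obj T ≅ c.pt) : ∃ (i : I) (X : Over S), Nonempty ((yon S).obj X ≅ D.obj i) := by
  obtain ⟨i⟩ := IsCofiltered.nonempty (C := I)
  obtain ⟨U, p, hU, hp, hp'⟩ := exists_affine_chart (hqc i)
  obtain ⟨s, V, a, b, hs, hV, sq⟩ := exists_sys_of_affine hDa hc hU p
  obtain ⟨h, hh⟩ := (yon S).map_surjective (a ≫ e.inv)
  have hh1 : (yon S).map h ≫ e.hom = a := by rw [hh]; simp
  obtain ⟨hEt, hSurj, hTc, hTq⟩ := compact_qs_of_limit hD (hqs i) hU hp hp' hV sq T e h hh1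
  obtain ⟨T₀, Q, q, α, β, hβ, q1, q2, q3, q4, q5, q6, q7, q8⟩ := K600.ApproxFlat.exists_flat_model h.left
  -- the kernel pair in the limit
  have h6 : IsPullback ((yon S).map (pullback.fst h h)) ((yon S).map (pullback.snd h h)) ((yon S).map h)
      ((yon S).map h) := (IsPullback.of_hasPullback h h).map (yon S)
  have hV₂ : IsPullback ((yon S).map (pullback.fst h h)) ((yon S).map (pullback.snd h h)) a a := by
    refine IsPullback.of_iso h6 (Iso.refl _) (Iso.refl _) (Iso.refl _) e (by simp) (by simp) ?_ ?_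
    · simpa using hh1
    · simpa using hh1
  have hV₂' : IsPullback (pullback.fst h h).left ((pullback.snd h h).left ≫ β) (β ≫ q) q := by
    have h1 := (isPullback_left (IsPullback.of_hasPullback h h))
    rw [hβ.w]
    exact (h1.flip.paste_horiz hβ).flip
  -- stage 1: the map to `T₀`
  have hlim := s.isLimitConeLeft sq hc
  have hAff : ∀ {j k : Over i} (f : j ⟶ k), IsAffineHom ((s.W ⋙ Over.forget S).map f) :=
    fun f => s.isAffineHom_map_of_isAffine hs f
  have hsa : ∀ j, IsAffine ((s.W ⋙ Over.forget S).obj j) := hs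
  have hT₀ : LocallyOfFinitePresentation (specULiftZIsTerminal.from T₀) := by
    rw [specULiftZIsTerminal.hom_ext (specULiftZIsTerminal.from T₀) (q ≫ specULiftZIsTerminal.from Q)]
    infer_instance
  obtain ⟨j, g, hg, -⟩ := Scheme.exists_π_app_comp_eq_of_locallyOfFinitePresentation (s.W ⋙ Over.forget S)
    ({ app := fun j => specULiftZIsTerminal.from _, naturality := fun _ _ _ => specULiftZIsTerminal.hom_ext _ _ } :
      s.W ⋙ Over.forget S ⟶ (Functor.const _).obj (Spec (.of (ULift.{u} ℤ)))) (specULiftZIsTerminal.from T₀) _ hlim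
    β (by ext k; exact specULiftZIsTerminal.hom_ext _ _)
  have hg' : (s.proj sq j).left ≫ g = β := hg
  -- stage 2
  obtain ⟨s₁, hs₁⟩ := Sys.exists_ofAffine hDa (hs j) (s.fst j)
  have hq₁ := s.isPullback_proj sq j
  obtain ⟨R₁, r₁, r₁', hR₁, hR₁c, -, -, -⟩ := exists_kp (hD j.left) (hqs j.left) (hs j) (repWith_fst s hp j)
  obtain ⟨j₁, hj₁⟩ := exists_coequalized hD hDa hc s₁ hs₁ hq₁ hR₁ hR₁c (hs j) hV₂ (g ≫ q) (by
    rw [← Category.assoc _ g, hg', hβ.w, left_assoc pullback.condition, left_assoc rfl])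
  -- stage 3
  have hq₂ := s₁.isPullback_proj hq₁ j₁
  obtain ⟨s₂, hs₂⟩ := Sys.exists_ofAffine hDa (hs₁ j₁) (s₁.fst j₁)
  obtain ⟨R₂, r₂, r₂', hR₂, hR₂c, k1, k2, k3⟩ := exists_kp (hD j₁.left) (hqs j₁.left) (hs₁ j₁)
    (repWith_fst s₁ (repWith_fst s hp j) j₁)
  have hp₂ : (s₁.proj hq₁ j₁).left ≫ (s₁.snd j₁).left ≫ g = β := by
    rw [left_assoc (s₁.proj_snd hq₁ j₁), hg']
  obtain ⟨j₂, hj₂⟩ := exists_isPullback_stage hD hc s₂ hs₂ hq₂ hR₂ hV₂ q ((s₁.snd j₁).left ≫ g)
    (by simpa using hj₁ hR₂) (by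
      rw [hp₂, Category.assoc, left_assoc (s₁.proj_snd hq₁ j₁), ← Category.assoc _ g, hg']
      exact hV₂')
  -- stage 4
  obtain ⟨R₃, r₃, r₃', hR₃, -, -, -, -⟩ := exists_kp (hD j₂.left) (hqs j₂.left) (hs₂ j₂)
    (repWith_fst s₂ (repWith_fst s₁ (repWith_fst s hp j) j₁) j₂)
  refine ⟨j₂.left, K600.RepCrit.exists_rep (hs₂ j₂) (s₂.fst j₂)
    (ESurj.of_repWith (repWith_fst s₂ (repWith_fst s₁ (repWith_fst s hp j) j₁) j₂)
      (repWith_fst s₂ (repWith_fst s₁ (repWith_fst s hp' j) j₁) j₂)).fSurj hR₃ q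
    ((s₂.snd j₂).left ≫ (s₁.snd j₁).left ≫ g) ?_⟩
  simpa using hj₂ hR₃

theorem isQuasiSeparatedSp_of_iso {F G : Sp S} (e : F ≅ G) (h : IsQuasiSeparatedSp F) : IsQuasiSeparatedSp G := by
  have : Limits.diag G = e.inv ≫ Limits.diag F ≫ prod.map e.hom e.hom := by ext <;> simp
  unfold IsQuasiSeparatedSp
  rw [this]
  exact MorphismProperty.RespectsIso.precomp _ _ _
    (MorphismProperty.RespectsIso.postcomp _ _ _ h)

theorem compactSpace_of_chart {X : Over S} {F : Sp S} (e : (yon S).obj X ≅ F) (h : IsQuasiCompactSp F) :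
    CompactSpace X.left := by
  obtain ⟨U, p, hU, hp, hp'⟩ := exists_affine_chart h
  obtain ⟨r, hr⟩ := (yon S).map_surjective (p ≫ e.inv)
  have h2 : RepWith @Surjective ((yon S).map r) := by
    rw [hr]; exact MorphismProperty.RespectsIso.postcomp _ _ _ hp'
  have h4 : Surjective r.left := (repWith_yon_map_iff _ _).1 h2
  exact Function.Surjective.compactSpace r.left.continuous h4.surj

/-- If the limit is affine and some stage is a scheme, then some later stage is affine. -/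
theorem exists_affine_of_rep [QuasiSeparatedSpace ↥S]
    (hDa : ∀ (i j : I) (φ : i ⟶ j), IsAffineMor (D.map φ)) {c : Cone D} (hc : IsLimit c)
    {T : Over S} (hT : IsAffine T.left) (e : (yon S).obj T ≅ c.pt) {i : I} (hqc : IsQuasiCompactSp (D.obj i))
    (hqs : IsQuasiSeparatedSp (D.obj i)) {X : Over S} (eX : (yon S).obj X ≅ D.obj i) :
    ∃ (j : Over i) (T' : Over S), IsAffine T'.left ∧ Nonempty ((yon S).obj T' ≅ D.obj j.left) := by
  have hDr : ∀ (i j : I) (φ : i ⟶ j), RepWith @IsAffineHom (D.map φ) := fun i j φ =>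
    K597.Affine.isAffineMor_iff.1 (hDa i j φ)
  let s : Sys D i eX.hom := Sys.ofRep (fun i j φ => (hDr i j φ).1) eX.hom
  obtain ⟨b, hb⟩ := (yon S).map_surjective (e.hom ≫ c.π.app i ≫ eX.inv)
  have sq : IsPullback e.hom ((yon S).map b) (c.π.app i) eX.hom :=
    IsPullback.of_horiz_isIso ⟨by rw [hb]; simp⟩
  have hlim := s.isLimitConeLeft sq hc
  have hXc : CompactSpace X.left := compactSpace_of_chart eX hqc
  have hXq : QuasiSeparatedSpace X.left := by
    have h12 : QuasiCompact (pullback.diagonal X.hom) :=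
      (repWith_diag_yon_iff @QuasiCompact X).1 (isQuasiSeparatedSp_of_iso eX.symm hqs)
    have h13 : QuasiSeparated X.hom := ⟨h12⟩
    exact quasiSeparatedSpace_of_quasiSeparated X.hom
  have hs0 : ∀ j, IsAffineHom (s.snd j).left := fun j => (hDr _ _ j.hom).2 _ _ _ (s.sq j)
  have hAff : ∀ {j k : Over i} (f : j ⟶ k), IsAffineHom ((s.W ⋙ Over.forget S).map f) :=
    fun f => s.isAffineHom_map hDr f
  have i1 : ∀ j, CompactSpace ((s.W ⋙ Over.forget S).obj j) := fun j =>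
    QuasiCompact.compactSpace_of_compactSpace (s.snd j).left
  have i2 : ∀ j, QuasiSeparatedSpace ((s.W ⋙ Over.forget S).obj j) := fun j =>
    quasiSeparatedSpace_of_quasiSeparated (s.snd j).left
  have i3 : IsAffine ((Over.forget S).mapCone (s.cone sq)).pt := hT
  obtain ⟨j, hj⟩ := Scheme.exists_isAffine_of_isLimit (s.W ⋙ Over.forget S) _ hlim
  have h5 : IsIso (s.fst j) := (s.sq j).isIso_fst_of_isIso
  exact ⟨j, s.obj j, hj, ⟨asIso (s.fst j)⟩⟩

/-- If the limit is affine, then some stage is affine. -/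
theorem exists_affine_of_limit [QuasiSeparatedSpace ↥S] (hD : ∀ i, IsAlgSpace (D.obj i))
    (hDa : ∀ (i j : I) (φ : i ⟶ j), IsAffineMor (D.map φ)) {c : Cone D} (hc : IsLimit c)
    (hqc : ∀ i, IsQuasiCompactSp (D.obj i)) (hqs : ∀ i, IsQuasiSeparatedSp (D.obj i))
    {T : Over S} (hT : IsAffine T.left) (e : (yon S).obj T ≅ c.pt) :
    ∃ (i : I) (T' : Over S), IsAffine T'.left ∧ Nonempty ((yon S).obj T' ≅ D.obj i) := by
  obtain ⟨i, X, ⟨eX⟩⟩ := exists_rep_of_limit hD hDa hc hqc hqs T e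
  obtain ⟨j, T', h1, h2⟩ := exists_affine_of_rep hDa hc hT e (hqc i) (hqs i) eX
  exact ⟨j.left, T', h1, h2⟩

end K600.LimRep
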