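import Groth.Prelude.Def_AlgSpModX
import Groth.Agent.AlgSp.K600.Basic
import Groth.Agent.AlgSp.K609.Points
import Groth.Agent.AlgSp.K613.Cover
import Mathlib.AlgebraicGeometry.Morphisms.ClosedImmersion

/-!
# Factorisation through closed subspaces, in terms of the kernel family `AlgSp.idealOfRep`
-/

universe u

open CategoryTheory CategoryTheory.Limits AlgebraicGeometry Opposite
open AlgSp

set_option backward.isDefEq.respectTransparency false

namespace K600.Ideal

/-- Factorisation of a morphism of schemes with affine target through a closed immersion. -/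
theorem exists_lift_of_ker_le {Z W X : Scheme.{u}} [IsAffine X] (f : Z ⟶ X) [IsClosedImmersion f] (g : W ⟶ X)
    (h : RingHom.ker f.appTop.hom ≤ RingHom.ker g.appTop.hom) : ∃ l : W ⟶ Z, l ≫ f = g := by
  have H : f.ker ≤ g.ker := by
    rw [Scheme.ker_of_isAffine, Scheme.ker_of_isAffine]
    exact (map_le_map_iff (Scheme.IdealSheafData.equivOfIsAffine (X := X)).symm).2 h
  exact ⟨IsClosedImmersion.lift f g H, IsClosedImmersion.lift_fac f g H⟩

variable {S : Scheme.{u}} {X Y Z : Sp S}

theorem mono_of_repWith {P : MorphismProperty Scheme.{u}} (hP : ∀ {X Y : Scheme.{u}} (f : X ⟶ Y), P f → Mono f)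
    {i : Z ⟶ X} (hi : RepWith P i) : Mono i := by
  refine K613.Basic.mono_of_injective fun T x y hxy => ?_
  obtain ⟨V, snd, fst, sq⟩ := hi.1 (x ≫ i)
  have hm : Mono snd.left := hP _ (hi.2 _ _ _ sq)
  obtain ⟨l, hl, hl'⟩ := Basic.exists_lift sq x (𝟙 T) (by simp)
  obtain ⟨m, hm, hm'⟩ := Basic.exists_lift sq y (𝟙 T) (by simp [hxy])
  have : l = m := by
    have h1 : l.left ≫ snd.left = m.left ≫ snd.left := by
      rw [← Over.comp_left, ← Over.comp_left, hl', hm']
    ext
    exact (cancel_mono snd.left).1 h1
  rw [← hl, ← hm, this]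

theorem mono_of_isClosedImmersion {i : Z ⟶ X} (hi : RepWith @IsClosedImmersion i) : Mono i :=
  mono_of_repWith (fun f hf => by have : IsClosedImmersion f := hf; infer_instance) hi

/-- Factorisation through a monomorphism of sheaves can be checked locally. -/
theorem exists_factor_of_cover {i : Z ⟶ X} [Mono i] {T : Over S} (h : (yon S).obj T ⟶ X) {ι : Type u}
    (T' : ι → Over S) (c : ∀ i, T' i ⟶ T) (hf : ∀ i, Flat (c i).left)
    (hp : ∀ i, LocallyOfFinitePresentation (c i).left)
    (hs : ∀ t : T.left, ∃ (i : ι) (t' : (T' i).left), (c i).left t' = t)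
    (H : ∀ j, ∃ k : (yon S).obj (T' j) ⟶ Z, k ≫ i = (yon S).map (c j) ≫ h) :
    ∃ k : (yon S).obj T ⟶ Z, k ≫ i = h := by
  choose k hk using H
  obtain ⟨y, hy, -⟩ := K613.Basic.glueFam T' c hf hp hs k (fun a b R r s hrs => by
    rw [← cancel_mono i, Category.assoc, hk, Category.assoc, hk, ← Category.assoc, ← Category.assoc,
      ← Functor.map_comp, ← Functor.map_comp, hrs])
  refine ⟨y, ?_⟩
  obtain ⟨z, -, hz'⟩ := K613.Basic.glueFam T' c hf hp hs (fun j => (yon S).map (c j) ≫ h) (fun a b R r s hrs => by
    rw [← Category.assoc, ← Category.assoc, ← Functor.map_comp, ← Functor.map_comp, hrs])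
  have e1 := hz' (y ≫ i) (fun j => by rw [← Category.assoc, hy, hk])
  have e2 := hz' h (fun j => rfl)
  exact e1.trans e2.symm

/-- The affine opens of an etale chart as objects of the small etale site. -/
noncomputable abbrev affChart {U : Over S} {p : (yon S).obj U ⟶ X} (hp : RepWith @Etale p)
    (j : U.left.affineCover.I₀) : EtOver X :=
  EtOver.mk ((yon S).map (Over.homMk (U.left.affineCover.f j) rfl :
      Over.mk (U.left.affineCover.f j ≫ U.hom) ⟶ U) ≫ p)
    (have : Etale (Over.homMk (U.left.affineCover.f j) rfl :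
      Over.mk (U.left.affineCover.f j ≫ U.hom) ⟶ U).left := by
        change Etale (U.left.affineCover.f j); infer_instance
    Basic.repWith_comp_etale hp _)

theorem isAffine_affChart {U : Over S} {p : (yon S).obj U ⟶ X} (hp : RepWith @Etale p)
    (j : U.left.affineCover.I₀) : IsAffine (affChart hp j).obj.left.left := by
  change IsAffine (U.left.affineCover.X j); infer_instance

theorem exists_affChart {U : Over S} {p : (yon S).obj U ⟶ X} (hp : RepWith @Etale p)
    (hs : RepWith @Surjective p) (x : Points X) :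
    ∃ (j : U.left.affineCover.I₀) (e : (affChart hp j).obj.left.left),
      Points.ofPt (affChart hp j).obj.hom e = x := by
  obtain ⟨u, rfl⟩ := K609.Points.surjective_ofPt_of_repWith_surjective hs x
  obtain ⟨j, y, hy⟩ := U.left.affineCover.exists_eq u
  have h1 := K609.Points.ofPt_yon_map_comp (Over.homMk (U.left.affineCover.f j) rfl :
      Over.mk (U.left.affineCover.f j ≫ U.hom) ⟶ U) p y
  have h2 : (Over.homMk (U.left.affineCover.f j) rfl :
      Over.mk (U.left.affineCover.f j ≫ U.hom) ⟶ U).left y = u := hy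
  rw [h2] at h1
  exact ⟨j, y, h1⟩

/-- The base changes of the affine opens of a surjective etale chart cover every scheme over `X`. -/
theorem exists_bc_affChart {T : Over S} (h : (yon S).obj T ⟶ X) (hh : Representable h)
    {U : Over S} {p : (yon S).obj U ⟶ X} (hp : RepWith @Etale p) (hs : RepWith @Surjective p) (t : T.left) :
    ∃ (j : U.left.affineCover.I₀) (w : (hh.pullback (affChart hp j).obj.hom).left),
        (hh.fst' (affChart hp j).obj.hom).left w = t := by
  obtain ⟨j, e, he⟩ := exists_affChart hp hs (Points.ofPt h t)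
  refine ⟨j, ?_⟩
  obtain ⟨r, hr, -⟩ := (K609.Points.ofPt_eq_ofPt_iff (hh.isPullback' (affChart hp j).obj.hom) t e).1 he.symm
  exact ⟨r, hr⟩

theorem etale_fst' {T : Over S} {h : (yon S).obj T ⟶ X} (hh : Representable h) (E : EtOver X) :
    Etale (hh.fst' E.obj.hom).left :=
  E.property.2 h _ _ (hh.isPullback' E.obj.hom).flip

theorem factors_iff {i : Z ⟶ X} (hi : RepWith @IsClosedImmersion i) {U : Over S} {p : (yon S).obj U ⟶ X}
    (hp : RepWith @Etale p) (hs : RepWith @Surjective p) {T : Over S}
    (h : (yon S).obj T ⟶ X) (hh : Representable h) :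
    (∃ k : (yon S).obj T ⟶ Z, k ≫ i = h) ↔ idealOfRep hi.1 ≤ idealOfRep hh := by
  constructor
  · rintro ⟨k, rfl⟩ E hE a ha
    rw [mem_idealOfRep_iff] at ha ⊢
    obtain ⟨l, -, hl⟩ := Basic.exists_lift (EtOver.isPullback_bcObj hi.1 E)
      ((EtOver.bcObj hh E).obj.hom ≫ k) (EtOver.bcπ hh E) (by
        rw [Category.assoc]; exact (EtOver.isPullback_bcObj hh E).w)
    have hl' : l.left ≫ (EtOver.bcπ hi.1 E).left = (EtOver.bcπ hh E).left := by
      rw [← Over.comp_left, hl]
    rw [← hl', Scheme.Hom.comp_appTop, CommRingCat.hom_comp, RingHom.comp_apply, ha, map_zero]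
  · intro hle
    have hm : Mono i := mono_of_isClosedImmersion hi
    refine exists_factor_of_cover h (fun j : U.left.affineCover.I₀ => hh.pullback (affChart hp j).obj.hom)
      (fun j => hh.fst' (affChart hp j).obj.hom) (fun j => ?_) (fun j => ?_)
      (fun t => exists_bc_affChart h hh hp hs t) (fun j => ?_)
    · have := etale_fst' hh (affChart hp j); infer_instance
    · have := etale_fst' hh (affChart hp j); infer_instance
    · have hE := isAffine_affChart hp j
      have hc : IsClosedImmersion (EtOver.bcπ hi.1 (affChart hp j)).left := Basic.bcπ_mem hi _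
      obtain ⟨l, hl⟩ := exists_lift_of_ker_le (EtOver.bcπ hi.1 (affChart hp j)).left
        (EtOver.bcπ hh (affChart hp j)).left (hle _ hE)
      let l' : (EtOver.bcObj hh (affChart hp j)).obj.left ⟶ (EtOver.bcObj hi.1 (affChart hp j)).obj.left :=
        Over.homMk l (by
          rw [← Over.w (EtOver.bcπ hi.1 (affChart hp j)), ← Category.assoc, hl]
          exact Over.w _)
      have hl' : l' ≫ EtOver.bcπ hi.1 (affChart hp j) = EtOver.bcπ hh (affChart hp j) := by
        ext; exact hl
      refine ⟨(yon S).map l' ≫ (EtOver.bcObj hi.1 (affChart hp j)).obj.hom, ?_⟩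
      rw [Category.assoc, (EtOver.isPullback_bcObj hi.1 (affChart hp j)).w, ← Category.assoc, ← Functor.map_comp,
        hl', Functor.relativelyRepresentable.map_fst']
      exact (EtOver.isPullback_bcObj hh (affChart hp j)).w.symm

end K600.Ideal
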