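import Groth.Agent.EtpbcB.ClosedImmEtale
import Groth.Agent.AlgSp.K599.BCClosed

/-!
# Etale lifting along closed immersions, affine version, and extension of sections

* `exists_affine_lift`: an etale scheme over a closed subscheme lifts locally to an affine etale scheme over
  the ambient scheme.
* `exists_open_of_section`: a section over a closed subscheme of an etale scheme.
* `exists_lift_chart`: the version for small etale sites.
-/

universe u

open CategoryTheory CategoryTheory.Limits AlgebraicGeometry Opposite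
open AlgSp

set_option backward.isDefEq.respectTransparency false

namespace K600.EtExt

section scheme

theorem exists_affine_lift {Z X U : Scheme.{u}} (i : Z ⟶ X) [IsClosedImmersion i] (p : U ⟶ Z)
    [Etale p] (x : U) :
    ∃ (V : Scheme.{u}) (q : V ⟶ X) (W : Scheme.{u}) (h : W ⟶ U) (r : W ⟶ V), IsAffine V ∧ Etale q ∧
      x ∈ Set.range h ∧ IsPullback r (h ≫ p) q i := by
  obtain ⟨V, q, hq, W, j, r, hj, ⟨w, hw⟩, sq⟩ :=
    Groth.Agent.EtpbcB.ClosedImmEtale.exists_etale_lift i p x
  obtain ⟨O, hO, hrO, -⟩ := exists_isAffineOpen_mem_and_subset (x := r w) (U := ⊤) trivial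
  refine ⟨O, O.ι ≫ q, r ⁻¹ᵁ O, (r ⁻¹ᵁ O).ι ≫ j, r ∣_ O, hO, inferInstance, ⟨⟨w, hrO⟩, ?_⟩, ?_⟩
  · rw [← hw]; rfl
  · have h1 : IsPullback (r ∣_ O) (r ⁻¹ᵁ O).ι O.ι r := isPullback_morphismRestrict r O
    rw [Category.assoc]
    exact h1.paste_vert sq

/-- A section over a closed subscheme of an etale scheme: an open neighbourhood of it meets the preimage of the
closed subscheme exactly in the section. -/
theorem exists_open_of_section {V Z Q : Scheme.{u}} (i : V ⟶ Z) [IsClosedImmersion i] (q : Q ⟶ Z) [Etale q]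
    (s : V ⟶ Q) (hs : s ≫ q = i) :
    ∃ (O : Q.Opens) (s' : V ⟶ O), s' ≫ O.ι = s ∧ IsPullback s' (𝟙 V) (O.ι ≫ q) i := by
  let P := pullback q i
  let f : P ⟶ Q := pullback.fst q i
  let g : P ⟶ V := pullback.snd q i
  have hf : IsClosedImmersion f := inferInstance
  have hg : Etale g := inferInstance
  let t : V ⟶ P := pullback.lift s (𝟙 V) (by rw [hs, Category.id_comp])
  have ht1 : t ≫ f = s := pullback.lift_fst _ _ _
  have ht2 : t ≫ g = 𝟙 V := pullback.lift_snd _ _ _
  have htm : Mono t := mono_of_mono_fac ht2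
  have hte : Etale t := by
    have : Etale (t ≫ g) := by rw [ht2]; infer_instance
    exact Etale.of_comp t g
  have hto : IsOpenImmersion t := IsOpenImmersion.of_flat_of_mono t
  obtain ⟨O, hO, hO'⟩ := f.isClosedEmbedding.isInducing.isOpen_iff.1 t.isOpenEmbedding.isOpen_range
  let O' : Q.Opens := ⟨O, hO⟩
  have hr : Set.range s ⊆ Set.range O'.ι := by
    rw [Scheme.Opens.range_ι]
    rintro _ ⟨v, rfl⟩
    have : t v ∈ f ⁻¹' O := hO' ▸ ⟨v, rfl⟩
    rw [← ht1]
    exact this
  let s' : V ⟶ O' := IsOpenImmersion.lift O'.ι s hr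
  have hs' : s' ≫ O'.ι = s := IsOpenImmersion.lift_fac _ _ _
  refine ⟨O', s', hs', ⟨⟨by rw [← Category.assoc, hs', hs, Category.id_comp]⟩,
    ⟨PullbackCone.IsLimit.mk _ (fun c => c.snd) ?_ ?_ ?_⟩⟩⟩
  · -- the cone factors through the section
    intro c
    have hc : (c.fst ≫ O'.ι) ≫ q = c.snd ≫ i := by rw [Category.assoc]; exact c.condition
    let m : c.pt ⟶ P := pullback.lift (c.fst ≫ O'.ι) c.snd hc
    have hm1 : m ≫ f = c.fst ≫ O'.ι := pullback.lift_fst _ _ _
    have hm2 : m ≫ g = c.snd := pullback.lift_snd _ _ _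
    have hmr : Set.range m ⊆ Set.range t := by
      rintro _ ⟨x, rfl⟩
      rw [← hO']
      change (f (m x)) ∈ O
      rw [← Scheme.Hom.comp_apply, hm1]
      exact (c.fst x).2
    let m' : c.pt ⟶ V := IsOpenImmersion.lift t m hmr
    have hm' : m' ≫ t = m := IsOpenImmersion.lift_fac _ _ _
    have hm'' : m' = c.snd := by
      rw [← hm2, ← hm', Category.assoc, ht2, Category.comp_id]
    rw [← cancel_mono O'.ι, Category.assoc, hs', ← ht1, ← Category.assoc, ← hm'', hm', hm1]
  · intro c; exact Category.comp_id _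
  · intro c m _ h2
    rw [← h2, Category.comp_id]

end scheme

variable {S : Scheme.{u}} {F X : Sp S} {i : F ⟶ X}

/-- An etale scheme over the base change to `F` of a chart `E` of `X` lifts locally to an affine chart of `X`
over `E`. -/
theorem exists_lift_chart (hi : RepWith @IsClosedImmersion i) (E : EtOver X) {P : Over S}
    (p : P ⟶ (EtOver.bcObj hi.1 E).obj.left) (hp : Etale p.left) (x : P.left) :
    ∃ (E' : EtOver X) (g : E' ⟶ E) (h : (EtOver.bcObj hi.1 E').obj.left ⟶ P), IsAffine E'.obj.left.left ∧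
      h ≫ p = (EtOver.bcMap hi.1 g).hom.left ∧ x ∈ Set.range h.left := by
  have hcl : IsClosedImmersion (EtOver.bcπ hi.1 E).left := K599.BCClosed.isClosedImmersion_bcπ hi E
  obtain ⟨V, q, W, h, r, hV, hq, ⟨w, hw⟩, sq⟩ := exists_affine_lift (EtOver.bcπ hi.1 E).left p.left x
  let q' : Over.mk (q ≫ E.obj.left.hom) ⟶ E.obj.left := Over.homMk q rfl
  let EV : EtOver X := EtOver.mk ((yon S).map q' ≫ E.obj.hom)
    ((repWith_isMultiplicative (S := S) @Etale).comp_mem _ _ ((repWith_yon_map_iff _ _).2 hq) E.property)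
  let g : EV ⟶ E := EtOver.homMk q' rfl
  have sq' := EtOver.isPullback_bcMap_left hi.1 g
  have sq1 : IsPullback r (h ≫ p.left) q (EtOver.bcπ hi.1 E).left := sq
  let e : (EtOver.bcObj hi.1 EV).obj.left.left ≅ W := sq'.flip.isoIsPullback _ _ sq1
  have he : e.hom ≫ h ≫ p.left = (EtOver.bcMap hi.1 g).hom.left.left :=
    sq'.flip.isoIsPullback_hom_snd _ _ sq1
  let k : (EtOver.bcObj hi.1 EV).obj.left ⟶ P := Over.homMk (e.hom ≫ h) (by
    have h1 := Over.w p
    have h2 := Over.w (EtOver.bcMap hi.1 g).hom.left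
    rw [← h1, ← h2, ← he]
    simp only [Category.assoc])
  refine ⟨EV, g, k, hV, ?_, ⟨e.inv w, ?_⟩⟩
  · apply Over.OverMorphism.ext
    change (e.hom ≫ h) ≫ p.left = _
    rw [Category.assoc, he]
  · change (e.hom ≫ h) (e.inv w) = x
    rw [← hw, ← Scheme.Hom.comp_apply, Iso.inv_hom_id_assoc]

end K600.EtExt
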