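import Mathlib.FieldTheory.IsAlgClosed.Classification
import Mathlib.AlgebraicGeometry.Morphisms.QuasiFinite
import Mathlib.RingTheory.Unramified.Basic
import Mathlib.RingTheory.Unramified.LocalStructure
import Groth.Prelude.Def_AlgSpOX3
import Groth.Agent.AlgSp.K611.GeomPt
import Groth.Agent.AlgSp.K609.Sep

/-!
# Lifting geometric points along arbitrary morphisms when the field is large
-/

universe u

open CategoryTheory CategoryTheory.Limits AlgebraicGeometry Opposite Cardinal
open AlgSp

set_option backward.isDefEq.respectTransparency false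

namespace K600.GeomLift

theorem exists_algHom_of_basis (F K L : Type u) [Field F] [Field K] [Field L] [Algebra F K] [Algebra F L]
    [IsAlgClosed K] {ι : Type u} {x : ι → L} (hx : IsTranscendenceBasis F x) {y : ι → K}
    (hy : AlgebraicIndependent F y) : Nonempty (L →ₐ[F] K) := by
  let A := Algebra.adjoin F (Set.range x)
  have halg : Algebra.IsAlgebraic A L := hx.isAlgebraic
  let φ : A →ₐ[F] K := (MvPolynomial.aeval y).comp hx.1.aevalEquiv.symm.toAlgHom
  have hφ : Function.Injective φ := by
    have h0 : Function.Injective (MvPolynomial.aeval (R := F) y) := hy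
    have h1 := h0.comp hx.1.aevalEquiv.symm.injective
    exact h1
  let : Algebra A K := φ.toRingHom.toAlgebra
  have : IsScalarTower F A K := IsScalarTower.of_algebraMap_eq (fun r => (φ.commutes r).symm)
  have : FaithfulSMul A K := (faithfulSMul_iff_algebraMap_injective A K).2 hφ
  have : Module.IsTorsionFree A K := inferInstance
  exact ⟨(IsAlgClosed.lift (R := A) (S := L) (M := K)).restrictScalars F⟩

/-- A field extension of smaller cardinality embeds in an algebraically closed extension. -/
theorem exists_algHom_of_card_lt (F K L : Type u) [Field F] [Field K] [Field L] [Algebra F K] [Algebra F L]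
    [IsAlgClosed K] (h : #L < #K) : Nonempty (L →ₐ[F] K) := by
  rcases le_or_gt #K ℵ₀ with hK | hK
  · have : Finite L := by
      rw [← Cardinal.lt_aleph0_iff_finite]
      exact h.trans_le hK
    have : Algebra.IsAlgebraic F L := inferInstance
    exact ⟨IsAlgClosed.lift⟩
  · obtain ⟨s, x, hs⟩ := exists_isTranscendenceBasis' F L
    obtain ⟨t, y, ht⟩ := exists_isTranscendenceBasis' F K
    have h1 : #K ≤ max (max #F #t) ℵ₀ := IsAlgClosed.cardinal_le_max_transcendence_basis' y ht
    have h2 : #F ≤ #L := Cardinal.mk_le_of_injective (algebraMap F L).injective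
    have h3 : #K ≤ #t := by
      by_contra h4
      rw [not_le] at h4
      exact absurd h1 (not_le.2 (max_lt (max_lt (h2.trans_lt h) h4) hK))
    have h4 : #s ≤ #L := Cardinal.mk_le_of_injective hs.1.injective
    have h5 : #s ≤ #t := (h4.trans h.le).trans h3
    obtain ⟨e⟩ := h5
    exact exists_algHom_of_basis F K L hs (ht.1.comp e e.injective)

/-- `K`-points through a given point with small residue field. -/
theorem exists_point_lift {W V : Scheme.{u}} (h : W ⟶ V) (w : W) {K : Type u} [Field K] [IsAlgClosed K]
    (g : Spec (CommRingCat.of K) ⟶ V) (hw : h w = g (IsLocalRing.closedPoint K))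
    (hcard : #(W.residueField w) < #K) :
    ∃ l : Spec (CommRingCat.of K) ⟶ W, l ≫ h = g ∧ l (IsLocalRing.closedPoint K) = w := by
  have h1 : ∀ v : V, v = g (IsLocalRing.closedPoint K) →
      ∃ φ : V.residueField v ⟶ CommRingCat.of K, Spec.map φ ≫ V.fromSpecResidueField v = g := by
    rintro v rfl
    exact ⟨_, Scheme.descResidueField_stalkClosedPointTo_fromSpecResidueField K V g⟩
  obtain ⟨φ, hφ⟩ := h1 _ hw
  let ψ := h.residueFieldMap w
  let : Algebra (V.residueField (h w)) (W.residueField w) := ψ.hom.toAlgebra
  let : Algebra (V.residueField (h w)) K := φ.hom.toAlgebra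
  obtain ⟨χ⟩ := exists_algHom_of_card_lt (V.residueField (h w)) K (W.residueField w) hcard
  have hχ : ψ ≫ CommRingCat.ofHom χ.toRingHom = φ := by
    ext x
    exact χ.commutes x
  refine ⟨Spec.map (CommRingCat.ofHom χ.toRingHom) ≫ W.fromSpecResidueField w, ?_, ?_⟩
  · rw [Category.assoc, ← Scheme.Hom.SpecMap_residueFieldMap_fromSpecResidueField, ← Spec.map_comp_assoc]
    change Spec.map (ψ ≫ CommRingCat.ofHom χ.toRingHom) ≫ _ = g
    rw [hχ, hφ]
  · rw [Scheme.Hom.comp_apply]
    exact Scheme.fromSpecResidueField_apply _ _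

theorem locallyQuasiFinite_of_etale {X Y : Scheme.{u}} (f : X ⟶ Y) [Etale f] : LocallyQuasiFinite f := by
  rw [HasRingHomProperty.eq_affineLocally (P := @LocallyQuasiFinite), affineLocally_iff_affineOpens_le]
  intro V W h
  have h1 : (f.appLE V W h).hom.FormallyUnramified :=
    HasRingHomProperty.appLE @FormallyUnramified f inferInstance V W h
  have h2 : (f.appLE V W h).hom.FiniteType :=
    HasRingHomProperty.appLE @LocallyOfFiniteType f inferInstance V W h
  algebraize [(f.appLE V W h).hom]
  exact (RingHom.quasiFinite_algebraMap ..).mpr inferInstance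

theorem finite_residueFieldMap {X Y : Scheme.{u}} (f : X ⟶ Y) [LocallyQuasiFinite f] (x : X) :
    (f.residueFieldMap x).hom.Finite := by
  have h1 : (f.stalkMap x).hom.QuasiFinite := f.quasiFiniteAt x
  have h2 : (X.residue x).hom.QuasiFinite :=
    RingHom.QuasiFinite.of_finite (RingHom.Finite.of_surjective _ (X.residue_surjective x))
  have h3 : ((X.residue x).hom.comp (f.stalkMap x).hom).QuasiFinite := h2.comp h1
  have h4 : (X.residue x).hom.comp (f.stalkMap x).hom = (f.residueFieldMap x).hom.comp (Y.residue (f x)).hom := by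
    rw [← CommRingCat.hom_comp, ← CommRingCat.hom_comp, Scheme.residue_residueFieldMap]
  rw [h4] at h3
  have h5 := h3.of_comp
  let : Algebra (Y.residueField (f x)) (X.residueField x) := (f.residueFieldMap x).hom.toAlgebra
  have h6 : Algebra.QuasiFinite (Y.residueField (f x)) (X.residueField x) := h5
  exact Algebra.QuasiFinite.iff_of_isArtinianRing.1 h6

theorem card_residueField_lt {X Y : Scheme.{u}} (f : X ⟶ Y) [Etale f] (x : X) {K : Type u} [Field K] [IsAlgClosed K]
    (h : #(Y.residueField (f x)) < #K) : #(X.residueField x) < #K := by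
  have := locallyQuasiFinite_of_etale f
  let : Algebra (Y.residueField (f x)) (X.residueField x) := (f.residueFieldMap x).hom.toAlgebra
  have h1 : Module.Finite (Y.residueField (f x)) (X.residueField x) := finite_residueFieldMap f x
  have hK : Infinite K := IsAlgClosed.instInfinite
  rcases finite_or_infinite (Y.residueField (f x)) with hY | hY
  · have : Finite (X.residueField x) := Module.finite_of_finite (Y.residueField (f x))
    exact (Cardinal.lt_aleph0_of_finite _).trans_le (Cardinal.aleph0_le_mk K)
  · have h2 : Algebra.IsAlgebraic (Y.residueField (f x)) (X.residueField x) := inferInstance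
    have h3 := Algebra.IsAlgebraic.cardinalMk_le_max (Y.residueField (f x)) (X.residueField x)
    rw [max_eq_left (Cardinal.aleph0_le_mk _)] at h3
    exact h3.trans_lt h

variable {S : Scheme.{u}}

theorem exists_lift_of_card {X Y : Sp S} (hY : IsAlgSpace Y) (f : X ⟶ Y) {U : Over S} (a : (yon S).obj U ⟶ X)
    (has : RepWith @Surjective a) (ybar : FieldPt Y) (hy : IsAlgClosed ybar.K)
    (hk : ∀ u : U.left, #(U.left.residueField u) < #ybar.K)
    (x : Points X) (hx : Points.map f x = Points.mk ybar) :
    ∃ xbar : (yon S).obj ybar.pt ⟶ X, xbar ≫ f = ybar.toHom ∧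
      Points.ofPt xbar (IsLocalRing.closedPoint ybar.K) = x := by
  obtain ⟨u, rfl⟩ := K609.Points.surjective_ofPt_of_repWith_surjective has x
  obtain ⟨V, q, hq, hq'⟩ := hY.atlas
  obtain ⟨W, w₁, w₂, hW⟩ := K609.Sep.exists_isPullback_yon hY.diag (a ≫ f) q
  have hw₁ : Etale w₁.left := hq.2 _ _ _ hW.flip
  obtain ⟨vbar, hv⟩ := K611.exists_lift_of_surjective hq hq' ybar inferInstance
  have h1 : Points.ofPt (a ≫ f) u = Points.ofPt q (vbar.left (IsLocalRing.closedPoint ybar.K)) := by
    rw [K611.ofPt_lift ybar vbar hv, ← hx, Points.map_ofPt]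
  obtain ⟨w, hw1, hw2⟩ := (K609.Points.ofPt_eq_ofPt_iff hW u _).1 h1
  have h2 : #(W.left.residueField w) < #ybar.K := card_residueField_lt w₁.left w (hk _)
  obtain ⟨l, hl1, hl2⟩ := exists_point_lift w₂.left w vbar.left hw2 h2
  let l' : ybar.pt ⟶ W := Over.homMk l (by
    rw [← Over.w w₂, ← Over.w vbar, ← hl1]
    exact (Category.assoc _ _ _).symm)
  have hl' : l' ≫ w₂ = vbar := Over.OverMorphism.ext hl1
  refine ⟨(yon S).map (l' ≫ w₁) ≫ a, ?_, ?_⟩
  · rw [Functor.map_comp, Category.assoc, Category.assoc, hW.w, ← Category.assoc, ← Functor.map_comp, hl', hv]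
  · rw [K609.Points.ofPt_yon_map_comp, Over.comp_left, Scheme.Hom.comp_apply]
    exact congrArg (Points.ofPt a) ((congrArg w₁.left hl2).trans hw1)

end K600.GeomLift
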