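import Groth.Prelude.Def_AlgSp4
import Groth.Agent.AlgSp.K600.LimAff
import Groth.Agent.AlgSp.K613.Cover
import Groth.Agent.Smoothlim.ClosedStage
import Mathlib.AlgebraicGeometry.Morphisms.FlatDescent

/-!
# Closed immersions into a limit, after base change to an affine chart of a stage
-/

universe u

open CategoryTheory CategoryTheory.Limits AlgebraicGeometry Opposite
open AlgSp

set_option backward.isDefEq.respectTransparency false

namespace K600.LimClosed

open K600.LimSys K600.LimAff

variable {S : Scheme.{u}}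

/-- Etale surjective morphisms to a quasi-compact scheme are dominated by an affine scheme. -/
theorem exists_affine_of_etale_surjective {W X : Scheme.{u}} [CompactSpace X] (f : W ⟶ X) [Etale f]
    [Surjective f] [PrespectralSpace X]:
    ∃ (Y : Scheme.{u}) (q : Y ⟶ W), IsAffine Y ∧ Etale q ∧ Surjective (q ≫ f) := by
  obtain ⟨V, hV, e⟩ := f.isOpenMap.exists_opens_image_eq_of_prespectralSpace
    f.continuous (by simp) isOpen_univ isCompact_univ
  have : CompactSpace V := isCompact_iff_compactSpace.mp hV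
  obtain ⟨Y, q, hq1, hq2, hq3⟩ := Scheme.exists_hom_isAffine_of_isZariskiLocalAtSource (P := @Etale) (V : Scheme.{u})
  have := hq2
  refine ⟨Y, q ≫ Scheme.Opens.ι V, hq3, inferInstance, ⟨fun x => ?_⟩⟩
  obtain ⟨y, hyV, hy⟩ := e.ge (Set.mem_univ x)
  obtain ⟨z, hz⟩ := hq1.surj ⟨y, hyV⟩
  refine ⟨z, ?_⟩
  rw [Category.assoc, Scheme.Hom.comp_apply, Scheme.Hom.comp_apply, hz]
  exact hy

/-- An affine chart of a quasi-compact sheaf over `B`, factoring through a given chart of `B`. -/
theorem exists_affine_chart_over {F B : Sp S} (hF : IsQuasiCompactSp F) (g : F ⟶ B) {V : Over S}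
    (q : (yon S).obj V ⟶ B) (hq : RepWith @Etale q) (hq' : RepWith @Surjective q) :
    ∃ (U : Over S) (p : (yon S).obj U ⟶ F) (v : U ⟶ V), IsAffine U.left ∧ RepWith @Etale p ∧
      RepWith @Surjective p ∧ (yon S).map v ≫ q = p ≫ g := by
  obtain ⟨U', p', hU', hp1, hp2⟩ := exists_affine_chart hF
  obtain ⟨W', w', a', sq⟩ := hq.1 (p' ≫ g)
  have h1 : Etale w'.left := hq.2 _ _ _ sq
  have h2 : Surjective w'.left := hq'.2 _ _ _ sq
  obtain ⟨Y, r, hY, hr, hr'⟩ := exists_affine_of_etale_surjective w'.left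
  obtain ⟨a'', rfl⟩ := (yon S).map_surjective a'
  let U : Over S := Over.mk (r ≫ W'.hom)
  let r' : U ⟶ W' := Over.homMk r rfl
  refine ⟨U, (yon S).map (r' ≫ w') ≫ p', r' ≫ a'', hY, ?_, ?_, ?_⟩
  · exact (repWith_isMultiplicative (S := S) @Etale).comp_mem _ _ ((repWith_yon_map_iff _ _).2 (by
      change Etale (r ≫ w'.left); infer_instance)) hp1
  · exact (repWith_isMultiplicative (S := S) @Surjective).comp_mem _ _ ((repWith_yon_map_iff _ _).2 hr') hp2
  · rw [Functor.map_comp, Category.assoc, sq.w, Functor.map_comp, Category.assoc, Category.assoc]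

variable {I : Type u} [SmallCategory I] {D : I ⥤ Sp S} {i : I} {U : Over S}
  {p : (yon S).obj U ⟶ D.obj i}

/-- The pullback of a closed immersion `y : Y ⟶ c.pt` into a limit to an affine chart of a stage, with
`Y` locally of finite type over `B`, is a closed immersion into a stage. -/
theorem exists_stage [IsCofiltered I] (hDa : ∀ (i j : I) (φ : i ⟶ j), IsAffineMor (D.map φ))
    {c : Cone D} (hc : IsLimit c) {B Y : Sp S} (hU : IsAffine U.left) (hp : RepWith @Etale p)
    {V : Over S} (q : (yon S).obj V ⟶ B) (hq : RepWith @Etale q) (t : D.obj i ⟶ B) (v : U ⟶ V)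
    (hv : (yon S).map v ≫ q = p ≫ t) (y : Y ⟶ c.pt) (hy : RepWith @IsClosedImmersion y)
    (hYB : LocP @LocallyOfFiniteType (y ≫ c.π.app i ≫ t)) :
    ∃ j₀ : Over i, ∀ (j : Over i) (_ : j ⟶ j₀),
      ∃ (E Z : Over S) (e : (yon S).obj E ⟶ D.obj j.left) (z : (yon S).obj Z ⟶ Y) (m : Z ⟶ E) (r : E ⟶ U),
        IsPullback e ((yon S).map r) (D.map j.hom) p ∧
        IsPullback z ((yon S).map m) (y ≫ c.π.app j.left) e ∧ IsClosedImmersion m.left := by
  obtain ⟨s, V', a, b, hs, hV', sq⟩ := exists_sys_of_affine hDa hc hU p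
  have ha : RepWith @Etale a := repWith_of_isPullback hp sq
  obtain ⟨Z, m, z, sqZ⟩ := hy.1 a
  have hm : IsClosedImmersion m.left := hy.2 _ _ _ sqZ
  have hz : RepWith @Etale z := (repWith_isStableUnderBaseChange (S := S) @Etale).of_isPullback sqZ.flip ha
  have hZV : LocallyOfFiniteType (m ≫ b ≫ v).left := by
    refine hYB z q (m ≫ b ≫ v) hz hq ?_
    rw [← Category.assoc, sqZ.w, Functor.map_comp, Functor.map_comp, Category.assoc, Category.assoc,
      Category.assoc, hv, ← Category.assoc a, sq.w, Category.assoc]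
  have h1 := s.isLimitConeLeft sq hc
  have hj0 : ∀ j, IsAffine ((s.W ⋙ Over.forget S).obj j) := hs
  have hAff : ∀ {j k : Over i} (f : j ⟶ k), IsAffineHom ((s.W ⋙ Over.forget S).map f) :=
    fun f => s.isAffineHom_map_of_isAffine hs f
  let j1 : Over i := Over.mk (𝟙 i)
  have : LocallyOfFiniteType ((m.left ≫ ((Over.forget S).mapCone (s.cone sq)).π.app j1) ≫ (s.snd j1 ≫ v).left) := by
    have e1 : (m.left ≫ ((Over.forget S).mapCone (s.cone sq)).π.app j1) ≫ (s.snd j1 ≫ v).left =
        (m ≫ b ≫ v).left := by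
      change (m.left ≫ (s.proj sq j1).left) ≫ (s.snd j1 ≫ v).left = _
      rw [← Over.comp_left, ← Over.comp_left, Category.assoc, ← Category.assoc (s.proj sq j1), s.proj_snd]
    rw [e1]; exact hZV
  obtain ⟨j₀, -, hj₀⟩ := Groth.Agent.Smoothlim.ClosedStage.exists_isClosedImmersion (s.W ⋙ Over.forget S)
    _ h1 m.left j1 (s.snd j1 ≫ v).left
  have hj₀' : IsClosedImmersion (m ≫ s.proj sq j₀).left := hj₀
  refine ⟨j₀, fun j f => ⟨s.obj j, Z, s.fst j, z, m ≫ s.proj sq j, s.snd j, s.sq j, ?_, ?_⟩⟩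
  · rw [Functor.map_comp]
    exact sqZ.paste_vert (s.isPullback_proj sq j)
  · have e2 : (m ≫ s.proj sq j).left ≫ (s.W.map f).left = (m ≫ s.proj sq j₀).left := by
      rw [← Over.comp_left, Category.assoc]
      exact congrArg (fun x => (m ≫ x).left) ((s.cone sq).w f)
    have h3 : IsClosedImmersion ((m ≫ s.proj sq j).left ≫ (s.W.map f).left) := by rw [e2]; exact hj₀'
    have h4 : IsAffineHom (s.W.map f).left := hAff f
    exact IsClosedImmersion.of_comp _ (s.W.map f).left

end K600.LimClosed
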