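import Groth.Prelude.Def_AlgSp4
import Groth.Agent.AlgSp.K600.LimClosed
import Groth.Agent.AlgSp.K597.Affine
import Groth.Agent.S0083

/-!
# Closed immersions into limits are closed immersions into a stage
-/

universe u

open CategoryTheory CategoryTheory.Limits AlgebraicGeometry Opposite
open AlgSp

set_option backward.isDefEq.respectTransparency false

namespace K600.LimImm

open K600.LimSys K600.LimAff K600.LimClosed K613.Cover

variable {S : Scheme.{u}}

theorem descendsAlong_isClosedImmersion :
    MorphismProperty.DescendsAlong (@IsClosedImmersion : MorphismProperty Scheme.{u}) fppf.{u} := by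
  have := Groth.Agent.S0083.result.{u}
  infer_instance

/-- Descent of closed immersions for representable maps. -/
theorem repWith_isClosedImmersion_of_cover {F G H P : Sp S} {b : H ⟶ G} (h : FSurj b) {a : F ⟶ G} {b' : P ⟶ F}
    {a' : P ⟶ H} (sq : IsPullback b' a' a b) (ha : Representable a) (ha' : RepWith @IsClosedImmersion a') :
    RepWith @IsClosedImmersion a := by
  have := descendsAlong_isClosedImmersion.{u}
  exact h.repWith sq ha ha'

theorem repWith_mono {P Q : MorphismProperty Scheme.{u}} (hPQ : ∀ {X Y : Scheme.{u}} (f : X ⟶ Y), P f → Q f)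
    {F G : Sp S} {f : F ⟶ G} (hf : RepWith P f) : RepWith Q f :=
  ⟨hf.1, fun _ _ g fst snd sq => hPQ _ (hf.2 g fst snd sq)⟩

variable {I : Type u} [SmallCategory I] [IsCofiltered I] {D : I ⥤ Sp S}

theorem exists_closedImmersion (hDa : ∀ (i j : I) (φ : i ⟶ j), IsAffineMor (D.map φ))
    {c : Cone D} (hc : IsLimit c) {B Y : Sp S} {V : Over S} (q : (yon S).obj V ⟶ B) (hq : RepWith @Etale q)
    (hq' : RepWith @Surjective q) {i₁ : I} (hqc : IsQuasiCompactSp (D.obj i₁)) (t : D.obj i₁ ⟶ B)
    (y : Y ⟶ c.pt) (hy : RepWith @IsClosedImmersion y) (hYB : LocP @LocallyOfFiniteType (y ≫ c.π.app i₁ ≫ t)) :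
    ∃ i₀ : I, ∀ (i : I) (_ : i ⟶ i₀), RepWith @IsClosedImmersion (y ≫ c.π.app i) := by
  obtain ⟨U, p, v, hU, hp, hp', hv⟩ := exists_affine_chart_over hqc t q hq hq'
  obtain ⟨j₀, hj₀⟩ := exists_stage hDa hc hU hp q hq t v hv y hy hYB
  refine ⟨j₀.left, fun k f => ?_⟩
  let k' : Over i₁ := Over.mk (f ≫ j₀.hom)
  obtain ⟨E, Z, e, z, m, r, sq, sq', hm⟩ := hj₀ k' (Over.homMk f rfl)
  have he : RepWith @Etale e := (repWith_isStableUnderBaseChange (S := S) @Etale).of_isPullback sq.flip hp
  have he' : RepWith @Surjective e :=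
    (repWith_isStableUnderBaseChange (S := S) @Surjective).of_isPullback sq.flip hp'
  have h1 : RepWith @IsAffineHom y := repWith_mono (P := @IsClosedImmersion) (Q := @IsAffineHom)
    (fun f hf => (inferInstance : IsAffineHom f)) hy
  have h2 : RepWith @IsAffineHom (c.π.app k) := K597.Affine.isAffineMor_iff.1 (isAffineMor_π hDa hc k)
  have h3 : RepWith @IsAffineHom (y ≫ c.π.app k) := (repWith_isMultiplicative (S := S) @IsAffineHom).comp_mem _ _ h1 h2
  exact repWith_isClosedImmersion_of_cover (ESurj.of_repWith he he').fSurj sq' h3.1 ((repWith_yon_map_iff _ _).2 hm)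

end K600.LimImm
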