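import Groth.Prelude.Def_AlgSp4
import Groth.Agent.AlgSp.K600.LimImm
import Groth.Agent.AlgSp.K600.LimRep
import Groth.Agent.AlgSp.K597.Chart
import Groth.Agent.Smoothlim.ClosedStage
import Groth.Agent.S2078
import Groth.Agent.S1125

/-!
# Immersions of quasi-compact spaces into limits are immersions into a stage
-/

universe u

open CategoryTheory CategoryTheory.Limits AlgebraicGeometry Opposite
open AlgSp

set_option backward.isDefEq.respectTransparency false

namespace K600.ImmStage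

open K600.LimSys K600.LimAff K600.LimClosed K600.LimImm K613.Cover

/-- An immersion of a quasi-compact scheme into a limit, of finite type over a base, is an immersion into some
stage. -/
theorem exists_isImmersion {I : Type u} [SmallCategory I] [IsCofiltered I]
    (D : I ⥤ Scheme.{u}) (c : Cone D) (hc : IsLimit c)
    [∀ {i j : I} (f : i ⟶ j), IsAffineHom (D.map f)] {Y S : Scheme.{u}} (h : Y ⟶ c.pt)
    [IsImmersion h] [CompactSpace Y] (i₀ : I) (p : D.obj i₀ ⟶ S)
    [LocallyOfFiniteType ((h ≫ c.π.app i₀) ≫ p)] :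
    ∃ (k : I) (_ : k ⟶ i₀), IsImmersion (h ≫ c.π.app k) := by
  obtain ⟨O, i, hO, hi, hio⟩ := Groth.Agent.S2078.exists_isClosedImmersion_compact_open h
  obtain ⟨i₁, V, hV, hVO⟩ := exists_preimage_eq D c hc O hO
  let k := IsCofiltered.min i₀ i₁
  let a : k ⟶ i₀ := IsCofiltered.minToLeft i₀ i₁
  let b : k ⟶ i₁ := IsCofiltered.minToRight i₀ i₁
  let V' : (D.obj k).Opens := D.map b ⁻¹ᵁ V
  have hV' : IsCompact (V' : Set (D.obj k)) := QuasiCompact.isCompact_preimage (f := D.map b) _ V.2 hV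
  have hVO' : c.π.app k ⁻¹ᵁ V' = O := by
    rw [← hVO, ← c.w b]
    rfl
  subst hVO'
  have inst1 : CompactSpace ((opensDiagram D k V').obj (Over.mk (𝟙 k))) :=
    isCompact_iff_compactSpace.mp (by simpa using hV')
  have e1 : (i ≫ (opensCone D c k V').π.app (Over.mk (𝟙 k))) ≫
      (D.map (𝟙 k) ⁻¹ᵁ V').ι = h ≫ c.π.app k := by
    rw [← hio]
    simp [opensCone]
  let p' : (opensDiagram D k V').obj (Over.mk (𝟙 k)) ⟶ S := (D.map (𝟙 k) ⁻¹ᵁ V').ι ≫ D.map a ≫ p
  have inst2 : LocallyOfFiniteType ((i ≫ (opensCone D c k V').π.app (Over.mk (𝟙 k))) ≫ p') := by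
    have e2 : (i ≫ (opensCone D c k V').π.app (Over.mk (𝟙 k))) ≫ p' = (h ≫ c.π.app i₀) ≫ p := by
      rw [← Category.assoc _ _ (D.map a ≫ p), e1]
      simp
    rw [e2]; infer_instance
  obtain ⟨l, -, hl⟩ := Groth.Agent.Smoothlim.ClosedStage.exists_isClosedImmersion (opensDiagram D k V')
    (opensCone D c k V') (isLimitOpensCone D c hc k V') i (Over.mk (𝟙 k)) p'
  refine ⟨l.left, l.hom ≫ a, ?_⟩
  have e3 : h ≫ c.π.app l.left = (i ≫ (opensCone D c k V').π.app l) ≫ (D.map l.hom ⁻¹ᵁ V').ι := by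
    rw [← hio]
    simp [opensCone]
  rw [e3]
  infer_instance

theorem isPullback_of_comp_mono {C : Type*} [Category C] {A B B' D E : C} {w : A ⟶ B} {m : A ⟶ B'} {s₁ : B ⟶ D}
    {t₁ : B' ⟶ D} {i : D ⟶ E} [Mono i] (sq : IsPullback w m (s₁ ≫ i) (t₁ ≫ i)) : IsPullback w m s₁ t₁ := by
  refine ⟨⟨by rw [← cancel_mono i, Category.assoc, Category.assoc, sq.w]⟩,
    ⟨PullbackCone.IsLimit.mk _ (fun c => sq.lift c.fst c.snd ?_) ?_ ?_ ?_⟩⟩
  · rw [c.condition_assoc]
  · intro c; exact sq.lift_fst _ _ _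
  · intro c; exact sq.lift_snd _ _ _
  · intro c l h1 h2
    apply sq.hom_ext
    · rw [h1, sq.lift_fst]
    · rw [h2, sq.lift_snd]

/-- Immersions can be tested after base change along an etale morphism covering the image. -/
theorem isImmersion_of_etale {W' W T' T : Scheme.{u}} {w : W' ⟶ W} {m : W' ⟶ T'} {s : W ⟶ T} {t : T' ⟶ T}
    (sq : IsPullback w m s t) [Etale t] [Surjective w] [IsImmersion m] : IsImmersion s := by
  let O : T.Opens := ⟨Set.range t, t.isOpenMap.isOpen_range⟩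
  have ht : Set.range t ⊆ Set.range O.ι := by simp [O]
  have hs : Set.range s ⊆ Set.range O.ι := by
    rintro _ ⟨x, rfl⟩
    obtain ⟨x', rfl⟩ := w.surjective x
    rw [← Scheme.Hom.comp_apply, sq.w, Scheme.Hom.comp_apply]
    exact ht ⟨_, rfl⟩
  let t₁ : T' ⟶ O := IsOpenImmersion.lift O.ι t ht
  let s₁ : W ⟶ O := IsOpenImmersion.lift O.ι s hs
  have ht₁ : t₁ ≫ O.ι = t := IsOpenImmersion.lift_fac _ _ _
  have hs₁ : s₁ ≫ O.ι = s := IsOpenImmersion.lift_fac _ _ _
  have sq₁ : IsPullback w m s₁ t₁ := isPullback_of_comp_mono (i := O.ι) (by rw [hs₁, ht₁]; exact sq)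
  have h1 : Etale t₁ := by
    have : Etale (t₁ ≫ O.ι) := by rw [ht₁]; infer_instance
    exact MorphismProperty.of_postcomp @Etale (W' := @Etale) _ _ (inferInstance : Etale O.ι) this
  have h2 : Surjective t₁ := by
    refine ⟨fun y => ?_⟩
    obtain ⟨x, hx⟩ : (O.ι y : T) ∈ Set.range t := y.2
    refine ⟨x, O.ι.isOpenEmbedding.injective ?_⟩
    rw [← Scheme.Hom.comp_apply, ht₁, hx]
  have h3 : IsImmersion s₁ := by
    have := Groth.Agent.S1125.result.{u}
    exact MorphismProperty.of_isPullback_of_descendsAlong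
      (Q := @Surjective ⊓ @Flat ⊓ @LocallyOfFinitePresentation) sq₁.flip ⟨⟨h2, inferInstance⟩, inferInstance⟩ ‹_›
  rw [← hs₁]
  infer_instance

variable {S : Scheme.{u}}

/-- Being an immersion can be tested after base change to an etale chart covering the image. -/
theorem repWith_isImmersion_of_etale {Y X : Sp S} {f : Y ⟶ X} (hf : Representable f) {U : Over S}
    {p : (yon S).obj U ⟶ X} (hp : RepWith @Etale p) {Z : Over S} {z : (yon S).obj Z ⟶ Y} {m : Z ⟶ U}
    (sq : IsPullback z ((yon S).map m) f p) (hz : Function.Surjective (Points.map z)) (hm : IsImmersion m.left) :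
    RepWith @IsImmersion f := by
  have hz' : RepWith @Surjective z :=
    (K609.Points.repWith_surjective_iff ((repWith_isStableUnderBaseChange (S := S) @Etale).of_isPullback
      sq.flip hp).1).2 hz
  refine ⟨hf, fun {T W} g fst snd sqW => ?_⟩
  obtain ⟨T', t, t'', sqT⟩ := hp.1 g
  obtain ⟨t', rfl⟩ := (yon S).map_surjective t''
  have ht : Etale t.left := hp.2 _ _ _ sqT
  obtain ⟨W', w, z'', sqZ⟩ := hz'.1 fst
  obtain ⟨z', rfl⟩ := (yon S).map_surjective z''
  have hw : Surjective w.left := hz'.2 _ _ _ sqZ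
  -- `W' = W ×_T T'`
  have e1 : ((yon S).map (z' ≫ m)) ≫ p = (yon S).map (w ≫ snd) ≫ g := by
    rw [Functor.map_comp, Functor.map_comp, Category.assoc, Category.assoc, ← sqW.w, ← Category.assoc _ fst,
      ← sqZ.w, Category.assoc, sq.w]
  obtain ⟨l, hl1, hl2⟩ := K600.Basic.exists_lift sqT ((yon S).map (z' ≫ m)) (w ≫ snd) e1
  have hl1' : l ≫ t' = z' ≫ m := (yon S).map_injective (by rw [Functor.map_comp, hl1])
  -- outer squares
  have o1 : IsPullback ((yon S).map z' ≫ (yon S).map m) ((yon S).map w) p (fst ≫ f) := sqZ.flip.flip.paste_horiz sq.flip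
  have o2 : IsPullback ((yon S).map l ≫ (yon S).map t') ((yon S).map w) p ((yon S).map snd ≫ g) := by
    rw [← Functor.map_comp, hl1', Functor.map_comp, ← sqW.w]
    exact o1
  have o3 : IsPullback ((yon S).map l) ((yon S).map w) ((yon S).map t) ((yon S).map snd) := by
    refine IsPullback.of_right o2 ?_ sqT
    rw [← Functor.map_comp, hl2, Functor.map_comp]
  have o4 : IsPullback l w t snd := IsPullback.of_map_of_faithful (yon S) o3
  have o5 := K600.LimRep.isPullback_left o4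
  -- `W' = Z ×_U T'`
  have o6 : IsPullback z' l m t' := by
    have a1 : IsPullback ((yon S).map z') ((yon S).map w) z fst := sqZ
    have a2 : IsPullback ((yon S).map z') ((yon S).map w ≫ (yon S).map snd) (z ≫ f) g := by
      exact (sqZ.flip.flip.paste_vert sqW)
    have a3 : IsPullback ((yon S).map z') ((yon S).map l ≫ (yon S).map t) ((yon S).map m ≫ p) g := by
      rw [← Functor.map_comp, hl2, Functor.map_comp, ← sq.w]
      exact a2
    refine IsPullback.of_map_of_faithful (yon S) (IsPullback.of_bot a3 ?_ sqT)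
    rw [← Functor.map_comp, ← Functor.map_comp, hl1']
  have o7 : IsImmersion l.left := MorphismProperty.of_isPullback (K600.LimRep.isPullback_left o6) hm
  exact isImmersion_of_etale o5.flip

/-- For `Y` quasi-compact over a space with chart `V₀`: an affine etale chart `U` of the target and an affine
scheme surjecting to `Y` which factors through `U`. -/
theorem exists_affine_chart_cover {Y X : Sp S} (hY : IsQuasiCompactSp Y) (y' : Y ⟶ X) {V₀ : Over S}
    (p₀ : (yon S).obj V₀ ⟶ X) (hp₀ : RepWith @Etale p₀) (hp₀' : RepWith @Surjective p₀) :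
    ∃ (U : Over S) (u : U ⟶ V₀) (Y₂ : Over S) (y₂ : (yon S).obj Y₂ ⟶ Y) (u₂ : Y₂ ⟶ U),
      IsAffine U.left ∧ Etale u.left ∧ IsAffine Y₂.left ∧ RepWith @Surjective y₂ ∧
      (yon S).map (u₂ ≫ u) ≫ p₀ = y₂ ≫ y' := by
  obtain ⟨Y₁, y₁, w₁, hY₁, hy₁, hy₁', hw⟩ := exists_affine_chart_over hY y' p₀ hp₀ hp₀'
  -- a quasi-compact open of `V₀` containing the image of `Y₁`
  obtain ⟨O, hOc, hO1, hO2⟩ := PrespectralSpace.exists_isCompact_and_isOpen_between
    (isCompact_range w₁.left.continuous) isOpen_univ (Set.subset_univ _)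
  let O' : V₀.left.Opens := ⟨O, hO1⟩
  have : CompactSpace O' := isCompact_iff_compactSpace.mp hOc
  obtain ⟨U₀, u₀, hu1, hu2, hu3⟩ := Scheme.exists_hom_isAffine_of_isZariskiLocalAtSource (P := @Etale)
    (O' : Scheme.{u})
  have := hu2
  have := hu1
  have hr : Set.range w₁.left ⊆ Set.range O'.ι := by simpa [O'] using hO2.1
  let w₀ : Y₁.left ⟶ O' := IsOpenImmersion.lift O'.ι w₁.left hr
  have hw₀ : w₀ ≫ O'.ι = w₁.left := IsOpenImmersion.lift_fac _ _ _
  obtain ⟨Y₂, r, hY₂, hr1, hr2⟩ := exists_affine_of_etale_surjective (pullback.fst w₀ u₀)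
  let U : Over S := Over.mk (u₀ ≫ O'.ι ≫ V₀.hom)
  let u : U ⟶ V₀ := Over.homMk (u₀ ≫ O'.ι) (by simp [U])
  let Y₂' : Over S := Over.mk ((r ≫ pullback.fst w₀ u₀) ≫ Y₁.hom)
  let y₀ : Y₂' ⟶ Y₁ := Over.homMk (r ≫ pullback.fst w₀ u₀) rfl
  let u₂ : Y₂' ⟶ U := Over.homMk (r ≫ pullback.snd w₀ u₀) (by
    change (r ≫ pullback.snd w₀ u₀) ≫ u₀ ≫ O'.ι ≫ V₀.hom = (r ≫ pullback.fst w₀ u₀) ≫ Y₁.hom
    rw [Category.assoc, ← pullback.condition_assoc, reassoc_of% hw₀, Over.w w₁, Category.assoc])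
  refine ⟨U, u, Y₂', (yon S).map y₀ ≫ y₁, u₂, hu3, ?_, hY₂, ?_, ?_⟩
  · change Etale (u₀ ≫ O'.ι)
    infer_instance
  · exact (repWith_isMultiplicative (S := S) @Surjective).comp_mem _ _ ((repWith_yon_map_iff _ _).2 hr2) hy₁'
  · have e : u₂ ≫ u = y₀ ≫ w₁ := by
      ext1
      change (r ≫ pullback.snd w₀ u₀) ≫ u₀ ≫ O'.ι = (r ≫ pullback.fst w₀ u₀) ≫ w₁.left
      rw [Category.assoc, ← pullback.condition_assoc, hw₀, Category.assoc]
    rw [e, Functor.map_comp, Category.assoc, hw, Category.assoc]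

variable {I : Type u} [SmallCategory I] [IsCofiltered I] {D : I ⥤ Sp S}

theorem exists_immersion [QuasiSeparatedSpace ↥S] (hD : ∀ i, IsAlgSpace (D.obj i))
    (hDa : ∀ (i j : I) (φ : i ⟶ j), IsAffineMor (D.map φ))
    {c : Cone D} (hc : IsLimit c) {B Y : Sp S} (hB : ∃ (V : Over S) (q : (yon S).obj V ⟶ B), RepWith @Etale q ∧
      RepWith @Surjective q) {i₁ : I} (hqs : IsQuasiSeparatedSp (D.obj i₁)) (t : D.obj i₁ ⟶ B)
    (hYqc : IsQuasiCompactSp Y)
    (y : Y ⟶ c.pt) (hy : RepWith @IsImmersion y) (hYB : LocP @LocallyOfFiniteType (y ≫ c.π.app i₁ ≫ t)) :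
    ∃ i₀ : I, ∀ (i : I) (_ : i ⟶ i₀), RepWith @IsImmersion (y ≫ c.π.app i) := by
  obtain ⟨V_B, q, hq, hq'⟩ := hB
  obtain ⟨V₀', p₀', hp₀', hp₀''⟩ := (hD i₁).atlas
  obtain ⟨V₀, p₀, v₀, hp₀, hp₀s, hv₀⟩ := K597.exists_chart_over t p₀' hp₀' hp₀'' q hq hq'
  obtain ⟨U, u, Y₂, y₂, u₂, hU, hu, hY₂, hy₂, hY₂U⟩ := exists_affine_chart_cover hYqc (y ≫ c.π.app i₁) p₀ hp₀ hp₀s
  let p : (yon S).obj U ⟶ D.obj i₁ := (yon S).map u ≫ p₀
  have hp : RepWith @Etale p := K600.Basic.repWith_comp_etale hp₀ u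
  let v : U ⟶ V_B := u ≫ v₀
  have hv : (yon S).map v ≫ q = p ≫ t := by
    rw [Functor.map_comp, Category.assoc, ← hv₀, Category.assoc]
  obtain ⟨s, V, a, b, hs, hV, sq⟩ := exists_sys_of_affine hDa hc hU p
  have ha : RepWith @Etale a := repWith_of_isPullback hp sq
  obtain ⟨Z, m, z, sqZ⟩ := hy.1 a
  have hm : IsImmersion m.left := hy.2 _ _ _ sqZ
  have hz : RepWith @Etale z := (repWith_isStableUnderBaseChange (S := S) @Etale).of_isPullback sqZ.flip ha
  -- `Y₂ → Y` factors through `Z`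
  have sqZU : IsPullback z ((yon S).map (m ≫ b)) (y ≫ c.π.app i₁) p := by
    rw [Functor.map_comp]
    exact (sqZ.paste_vert sq)
  obtain ⟨l, hl1, hl2⟩ := K600.Basic.exists_lift sqZU y₂ u₂ (by
    rw [← hY₂U, Functor.map_comp, Category.assoc])
  have hzs : Function.Surjective (Points.map z) := by
    have h1 := K609.Points.surjective_map_of_repWith_surjective hy₂
    rw [← hl1] at h1
    intro x
    obtain ⟨x', hx'⟩ := h1 x
    exact ⟨Points.map ((yon S).map l) x', by rw [← hx', Points.map_comp]⟩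
  -- `Z` is quasi-compact
  have hZc : CompactSpace Z.left := by
    obtain ⟨P, k₁, k₂, hk⟩ := K609.Sep.exists_isPullback_yon (hD i₁).diag (y₂ ≫ y ≫ c.π.app i₁) p
    have hPc : CompactSpace P.left := K609.Sep.compactSpace_pullback hqs hk
    obtain ⟨k, hk1, hk2⟩ := K600.Basic.exists_lift sqZU ((yon S).map k₁ ≫ y₂) k₂ (by
      rw [Category.assoc]; exact hk.w)
    have sqk : IsPullback ((yon S).map k₁) ((yon S).map k) y₂ z := by
      have h1 : IsPullback ((yon S).map k₁) ((yon S).map k ≫ (yon S).map (m ≫ b)) (y₂ ≫ y ≫ c.π.app i₁) p := by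
        rw [← Functor.map_comp, hk2]; exact hk
      exact (IsPullback.of_right h1.flip (by rw [hk1]) sqZU.flip).flip
    have hks : Surjective k.left := hy₂.2 _ _ _ sqk
    exact Function.Surjective.compactSpace k.left.continuous hks.surj
  have hZV : LocallyOfFiniteType (m ≫ b ≫ v).left := by
    refine hYB z q (m ≫ b ≫ v) hz hq ?_
    rw [← Category.assoc, sqZ.w, Functor.map_comp, Functor.map_comp, Category.assoc, Category.assoc,
      Category.assoc, hv, ← Category.assoc a, sq.w, Category.assoc]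
  have h1 := s.isLimitConeLeft sq hc
  have hj0 : ∀ j, IsAffine ((s.W ⋙ Over.forget S).obj j) := hs
  have hAff : ∀ {j k : Over i₁} (f : j ⟶ k), IsAffineHom ((s.W ⋙ Over.forget S).map f) :=
    fun f => s.isAffineHom_map_of_isAffine hs f
  let j1 : Over i₁ := Over.mk (𝟙 i₁)
  have hft : LocallyOfFiniteType ((m.left ≫ ((Over.forget S).mapCone (s.cone sq)).π.app j1) ≫ (s.snd j1 ≫ v).left) := by
    have e1 : (m.left ≫ ((Over.forget S).mapCone (s.cone sq)).π.app j1) ≫ (s.snd j1 ≫ v).left =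
        (m ≫ b ≫ v).left := by
      change (m.left ≫ (s.proj sq j1).left) ≫ (s.snd j1 ≫ v).left = _
      rw [← Over.comp_left, ← Over.comp_left, Category.assoc, ← Category.assoc (s.proj sq j1), s.proj_snd]
    rw [e1]; exact hZV
  have hm' : IsImmersion (Y := ((Over.forget S).mapCone (s.cone sq)).pt) m.left := hm
  obtain ⟨j₀, -, hj₀⟩ := exists_isImmersion (s.W ⋙ Over.forget S) _ h1 m.left j1 (s.snd j1 ≫ v).left
  have hj₀' : IsImmersion (m ≫ s.proj sq j₀).left := hj₀
  refine ⟨j₀.left, fun k f => ?_⟩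
  let j : Over i₁ := Over.mk (f ≫ j₀.hom)
  let f' : j ⟶ j₀ := Over.homMk f rfl
  have hj : IsImmersion (m ≫ s.proj sq j).left := by
    have e2 : (m ≫ s.proj sq j).left ≫ (s.W.map f').left = (m ≫ s.proj sq j₀).left := by
      rw [← Over.comp_left, Category.assoc]
      exact congrArg (fun x => (m ≫ x).left) ((s.cone sq).w f')
    have h3 : IsImmersion ((m ≫ s.proj sq j).left ≫ (s.W.map f').left) := by rw [e2]; exact hj₀'
    exact IsImmersion.of_comp _ (s.W.map f').left
  have sqj : IsPullback z ((yon S).map (m ≫ s.proj sq j)) (y ≫ c.π.app k) (s.fst j) := by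
    rw [Functor.map_comp]
    exact sqZ.paste_vert (s.isPullback_proj sq j)
  have hrep : Representable (y ≫ c.π.app k) := by
    have h2 : RepWith @IsAffineHom (c.π.app k) := K597.Affine.isAffineMor_iff.1 (isAffineMor_π hDa hc k)
    have h3 : RepWith (⊤ : MorphismProperty Scheme.{u}) y := ⟨hy.1, fun _ _ _ _ _ _ => trivial⟩
    have h4 : RepWith (⊤ : MorphismProperty Scheme.{u}) (c.π.app k) := ⟨h2.1, fun _ _ _ _ _ _ => trivial⟩
    exact ((repWith_isMultiplicative (S := S) ⊤).comp_mem _ _ h3 h4).1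
  exact repWith_isImmersion_of_etale hrep (repWith_fst s hp j) sqj hzs hj

end K600.ImmStage
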