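import Groth.Prelude.Def_AlgSp4
import Groth.Agent.AlgSp.K600.LimClosed
import Groth.Agent.UnramA.LfpOfComp

/-!
# Limits of systems of closed immersions: the projections are isomorphisms if the limit is of finite presentation
-/

universe u

open CategoryTheory CategoryTheory.Limits AlgebraicGeometry Opposite
open AlgSp

set_option backward.isDefEq.respectTransparency false

namespace K600.LimIso

open K600.LimSys K600.LimAff K600.LimClosed

theorem fg_of_lfp {Z X : Scheme.{u}} (f : Z ⟶ X) (hf : LocallyOfFinitePresentation f) [IsAffine X]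
    [IsClosedImmersion f] : (RingHom.ker f.appTop.hom).FG := by
  have : IsAffine Z := isAffine_of_isAffineHom f
  have h1 : f.appTop.hom.FinitePresentation :=
    (HasRingHomProperty.iff_of_isAffine (P := @LocallyOfFinitePresentation)).1 hf
  have h2 : Function.Surjective f.appTop.hom := (IsClosedImmersion.isAffine_surjective_of_isAffine (f := f)).2
  algebraize [f.appTop.hom]
  exact Algebra.FinitePresentation.ker_fG_of_surjective (Algebra.ofId Γ(X, ⊤) Γ(Z, ⊤)) h2

section Scheme

variable {I : Type u} [SmallCategory I] [IsCofiltered I] (D : I ⥤ Scheme.{u}) (c : Cone D) (hc : IsLimit c)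
  [hD : ∀ i, IsAffine (D.obj i)] (hcl : ∀ {i j : I} (f : i ⟶ j), IsClosedImmersion (D.map f))

include hc hD in
omit [IsCofiltered I] in
theorem isAffine_pt [IsCofiltered I] : IsAffine c.pt := Scheme.isAffine_of_isLimit _ hc

include hc hD hcl in
/-- the projections of a limit of closed immersions of affine schemes are closed immersions. -/
theorem isClosedImmersion_π (i : I) : IsClosedImmersion (c.π.app i) := by
  have : IsAffine (((Functor.const I).obj c.pt).obj i) := isAffine_pt D c hc
  refine IsClosedImmersion.of_surjective_of_isAffine _ ?_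
  intro s
  obtain ⟨j, t, rfl⟩ := exists_appTop_π_eq_of_isAffine_of_isLimit D c hc s
  let k := IsCofiltered.min i j
  have := hcl (IsCofiltered.minToLeft i j)
  obtain ⟨t', ht'⟩ := (IsClosedImmersion.isAffine_surjective_of_isAffine
    (f := D.map (IsCofiltered.minToLeft i j))).2 ((D.map (IsCofiltered.minToRight i j)).appTop t)
  refine ⟨t', ?_⟩
  rw [← c.w (IsCofiltered.minToLeft i j), ← c.w (IsCofiltered.minToRight i j), Scheme.Hom.comp_appTop,
    Scheme.Hom.comp_appTop]
  simp only [CommRingCat.comp_apply]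
  rw [ht']
  rfl

include hc hD in
theorem exists_forall_map_eq_zero (i : I) (t : Finset Γ(D.obj i, ⊤)) (ht : ∀ x ∈ t, (c.π.app i).appTop x = 0) :
    ∃ (j : I) (f : j ⟶ i), ∀ x ∈ t, (D.map f).appTop x = 0 := by
  classical
  induction t using Finset.induction with
  | empty => exact ⟨i, 𝟙 i, by simp⟩
  | insert a t ha ih =>
    obtain ⟨j, f, hf⟩ := ih (fun x hx => ht x (Finset.mem_insert_of_mem hx))
    obtain ⟨k, g, hg⟩ := exists_appTop_map_eq_zero_of_isAffine_of_isLimit D c hc i a
      (ht a (Finset.mem_insert_self _ _))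
    obtain ⟨l, p, q, hpq⟩ := IsCofiltered.cospan f g
    refine ⟨l, p ≫ f, fun x hx => ?_⟩
    rcases Finset.mem_insert.1 hx with rfl | hx
    · rw [hpq, D.map_comp, Scheme.Hom.comp_appTop, CommRingCat.comp_apply, hg, map_zero]
    · rw [D.map_comp, Scheme.Hom.comp_appTop, CommRingCat.comp_apply, hf x hx, map_zero]

include hc hD hcl in
theorem exists_isIso (i₀ : I) {V : Scheme.{u}} (v : D.obj i₀ ⟶ V) [LocallyOfFiniteType v]
    [LocallyOfFinitePresentation (c.π.app i₀ ≫ v)] :
    ∃ (k : I) (_ : k ⟶ i₀), ∀ (j : I) (_ : j ⟶ k), IsIso (c.π.app j) := by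
  have hpi := isClosedImmersion_π D c hc hcl
  have := hpi i₀
  have h1 : LocallyOfFinitePresentation (c.π.app i₀) :=
    Groth.Agent.UnramA.LfpOfComp.lfp_of_comp _ v inferInstance inferInstance
  obtain ⟨t, ht⟩ := fg_of_lfp _ h1
  obtain ⟨k, f, hf⟩ := exists_forall_map_eq_zero D c hc i₀ t (fun x hx => by
    have : x ∈ RingHom.ker (c.π.app i₀).appTop.hom := by rw [← ht]; exact Ideal.subset_span hx
    exact this)
  refine ⟨k, f, fun j g => ?_⟩
  have hj := hpi j
  refine IsClosedImmersion.isIso_of_injective_of_isAffine (f := c.π.app j) ?_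
  rw [injective_iff_map_eq_zero]
  intro x hx
  have hcl' := hcl (g ≫ f)
  obtain ⟨y, rfl⟩ := (IsClosedImmersion.isAffine_surjective_of_isAffine (f := D.map (g ≫ f))).2 x
  have hy : y ∈ RingHom.ker (c.π.app i₀).appTop.hom := by
    change (c.π.app i₀).appTop y = 0
    rw [← c.w (g ≫ f), Scheme.Hom.comp_appTop, CommRingCat.comp_apply]
    exact hx
  have h2 : Ideal.span (t : Set Γ(D.obj i₀, ⊤)) ≤ RingHom.ker (D.map f).appTop.hom :=
    Ideal.span_le.2 hf
  have h3 : (D.map f).appTop y = 0 := h2 (by rw [ht]; exact hy)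
  rw [D.map_comp, Scheme.Hom.comp_appTop, CommRingCat.comp_apply, h3, map_zero]

end Scheme

variable {S : Scheme.{u}} {I : Type u} [SmallCategory I] [IsCofiltered I] {D : I ⥤ Sp S}

theorem isAffineMor_of_repWith_isClosedImmersion {F G : Sp S} {f : F ⟶ G} (hf : RepWith @IsClosedImmersion f) :
    IsAffineMor f := by
  intro Z hZ g
  obtain ⟨W, w, a, sq⟩ := hf.1 g
  have : IsClosedImmersion w.left := hf.2 _ _ _ sq
  exact ⟨W, w, a, sq, isAffine_of_isAffineHom w.left⟩

theorem exists_isIso_of_isClosedImmersion {c : Cone D} (hc : IsLimit c)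
    (hDc : ∀ (i j : I) (φ : i ⟶ j), RepWith @IsClosedImmersion (D.map φ))
    {B : Sp S} {V : Over S} (q : (yon S).obj V ⟶ B) (hq : RepWith @Etale q) (hq' : RepWith @Surjective q)
    (i₁ : I) (hqc : IsQuasiCompactSp (D.obj i₁)) (t : D.obj i₁ ⟶ B)
    (hft : LocP @LocallyOfFiniteType t) (hX : LocP @LocallyOfFinitePresentation (c.π.app i₁ ≫ t)) :
    ∃ i₀ : I, ∀ (i : I) (_ : i ⟶ i₀), IsIso (c.π.app i) := by
  have hDa : ∀ (i j : I) (φ : i ⟶ j), IsAffineMor (D.map φ) := fun i j φ =>
    isAffineMor_of_repWith_isClosedImmersion (hDc i j φ)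
  obtain ⟨U, p, v, hU, hp, hp', hv⟩ := exists_affine_chart_over hqc t q hq hq'
  obtain ⟨s, V', a, b, hs, hV', sq⟩ := exists_sys_of_affine hDa hc hU p
  have ha : RepWith @Etale a := repWith_of_isPullback hp sq
  have h1 := s.isLimitConeLeft sq hc
  have hj0 : ∀ j, IsAffine ((s.W ⋙ Over.forget S).obj j) := hs
  have hcl : ∀ {j k : Over i₁} (f : j ⟶ k), IsClosedImmersion ((s.W ⋙ Over.forget S).map f) := by
    intro j k f
    exact (hDc _ _ f.left).2 _ _ _ (s.isPullback_map f)
  let j1 : Over i₁ := Over.mk (𝟙 i₁)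
  have hl : LocallyOfFiniteType (s.snd j1 ≫ v).left := by
    refine hft (s.fst j1) q (s.snd j1 ≫ v) (repWith_fst s hp j1) hq ?_
    have := s.w j1
    rw [Functor.map_comp, Category.assoc, hv, ← Category.assoc ((yon S).map _), ← s.w j1]
    simp [j1]
  have hl2 : LocallyOfFinitePresentation
      (((Over.forget S).mapCone (s.cone sq)).π.app j1 ≫ (s.snd j1 ≫ v).left) := by
    change LocallyOfFinitePresentation ((s.proj sq j1).left ≫ (s.snd j1 ≫ v).left)
    rw [← Over.comp_left, s.proj_snd_assoc]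
    refine hX a q (b ≫ v) ha hq ?_
    rw [Functor.map_comp, Category.assoc, hv, ← Category.assoc ((yon S).map b), ← sq.w, Category.assoc]
  obtain ⟨k, -, hk⟩ := exists_isIso (s.W ⋙ Over.forget S) _ h1 hcl j1 (s.snd j1 ≫ v).left
  refine ⟨k.left, fun i φ => ?_⟩
  let j : Over i₁ := Over.mk (φ ≫ k.hom)
  have h2 : IsIso (s.proj sq j).left := hk j (Over.homMk φ)
  have h3 : IsIso (s.proj sq j) := by
    have : IsIso ((Over.forget S).map (s.proj sq j)) := h2
    exact isIso_of_reflects_iso _ (Over.forget S)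
  have h4 := s.isPullback_proj sq j
  exact (K613.Cover.ESurj.of_repWith (repWith_fst s hp j) (repWith_fst s hp' j)).fSurj.isIso h4

end K600.LimIso
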