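import Groth.Prelude.Def_AlgSpRep
import Groth.Agent.AlgSp.K600.LimAff
import Groth.Agent.AlgSp.K597.Affine
import Groth.Agent.AlgSp.K606.RepBySp

/-!
# The limit of a system of algebraic spaces with affine transition maps is an algebraic space
-/

universe u

open CategoryTheory CategoryTheory.Limits AlgebraicGeometry Opposite
open AlgSp

set_option backward.isDefEq.respectTransparency false

namespace K600.LimSpace

variable {S : Scheme.{u}}

/-- The source of a representable map to an algebraic space is an algebraic space. -/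
theorem isAlgSpace_of_representable {F G : Sp S} {f : F ⟶ G} (hf : Representable f) (hG : IsAlgSpace G) :
    IsAlgSpace F := by
  have h : RepBySp f.hom := by
    rw [repBySp_hom_iff]
    intro U ξ F' fst snd sq
    obtain ⟨V, snd', fst', sq'⟩ := hf ξ
    exact (IsAlgSpace.yon_obj V).of_iso (sq'.isoIsPullback _ _ sq)
  exact (isAlgSpaceP_obj_iff F).1 (K606.RepBySp.isAlgSpaceP_of_repBySp f.hom h ((isAlgSpaceP_obj_iff G).2 hG))

theorem isAlgSpace_of_isAffineMor {F G : Sp S} {f : F ⟶ G} (hf : IsAffineMor f) (hG : IsAlgSpace G) :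
    IsAlgSpace F :=
  isAlgSpace_of_representable (K597.Affine.isAffineMor_iff.1 hf).1 hG

variable {I : Type u} [SmallCategory I] [IsCofiltered I] {D : I ⥤ Sp S}

theorem isAlgSpace_limit (hD : ∀ i, IsAlgSpace (D.obj i)) (hDa : ∀ (i j : I) (φ : i ⟶ j), IsAffineMor (D.map φ))
    {c : Cone D} (hc : IsLimit c) : IsAlgSpace c.pt := by
  obtain ⟨i⟩ := IsCofiltered.nonempty (C := I)
  exact isAlgSpace_of_isAffineMor (K600.LimAff.isAffineMor_π hDa hc i) (hD i)

end K600.LimSpace
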