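import Groth.Agent.AlgSp.K600.UnionSch
import Groth.Agent.AlgSp.K600.EtExt
import Groth.Agent.AlgSp.K600.Ideal
import Groth.Agent.AlgSp.K642.EtCov
import Groth.Agent.AlgSp.K616.Refine
import Mathlib.CategoryTheory.Limits.Over

/-!
# The scheme theoretic union of two closed subspaces is a pushout of algebraic spaces
-/

universe u

open CategoryTheory CategoryTheory.Limits AlgebraicGeometry Opposite
open AlgSp

set_option backward.isDefEq.respectTransparency false

namespace K600.Union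

variable {S : Scheme.{u}} {X : Sp S}

section bcK

variable {F F' : Sp S} {i : F ⟶ X} {i' : F' ⟶ X} (hi : Representable i) (hi' : Representable i')
  (k : F ⟶ F') (hk : k ≫ i' = i)

/-- Base change to a chart `E` of `X` of a morphism over `X`. -/
noncomputable def bcK (E : EtOver X) : (EtOver.bcObj hi E).obj.left ⟶ (EtOver.bcObj hi' E).obj.left :=
  hi'.lift ((EtOver.bcObj hi E).obj.hom ≫ k) (EtOver.bcπ hi E)
    (by rw [Category.assoc, hk]; exact (EtOver.isPullback_bcObj hi E).w)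

theorem bcK_π (E : EtOver X) : bcK hi hi' k hk E ≫ EtOver.bcπ hi' E = EtOver.bcπ hi E :=
  hi'.lift_snd _ _ _

theorem map_bcK (E : EtOver X) : (yon S).map (bcK hi hi' k hk E) ≫ (EtOver.bcObj hi' E).obj.hom =
    (EtOver.bcObj hi E).obj.hom ≫ k := hi'.lift_fst _ _ _

theorem bcObj_hom_ext {E : EtOver X} {R : Over S} {u v : R ⟶ (EtOver.bcObj hi E).obj.left}
    (h₁ : (yon S).map u ≫ (EtOver.bcObj hi E).obj.hom = (yon S).map v ≫ (EtOver.bcObj hi E).obj.hom)
    (h₂ : u ≫ EtOver.bcπ hi E = v ≫ EtOver.bcπ hi E) : u = v := hi.hom_ext h₁ h₂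

theorem bcMap_bcK {E' E : EtOver X} (g : E' ⟶ E) :
    (EtOver.bcMap hi g).hom.left ≫ bcK hi hi' k hk E = bcK hi hi' k hk E' ≫ (EtOver.bcMap hi' g).hom.left := by
  refine bcObj_hom_ext hi' ?_ ?_
  · rw [Functor.map_comp, Functor.map_comp, Category.assoc, Category.assoc, map_bcK, EtOver.w (EtOver.bcMap hi' g),
      map_bcK, ← Category.assoc, EtOver.w (EtOver.bcMap hi g)]
  · rw [Category.assoc, Category.assoc, bcK_π, EtOver.bcMap_snd, EtOver.bcMap_snd, ← Category.assoc, bcK_π]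

/-- `F_E` is the pullback of `F'_E` along `F ⟶ F'`. -/
theorem isPullback_bcK (E : EtOver X) : IsPullback ((yon S).map (bcK hi hi' k hk E)) (EtOver.bcObj hi E).obj.hom
    (EtOver.bcObj hi' E).obj.hom k := by
  have h1 := EtOver.isPullback_bcObj hi E
  have h2 := EtOver.isPullback_bcObj hi' E
  have h3 : IsPullback (EtOver.bcObj hi E).obj.hom ((yon S).map (bcK hi hi' k hk E) ≫ (yon S).map (EtOver.bcπ hi' E))
      (k ≫ i') E.obj.hom := by
    rw [hk, ← Functor.map_comp, bcK_π]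
    exact h1
  exact (IsPullback.of_bot h3 (map_bcK hi hi' k hk E).symm h2).flip

end bcK

/-- Equality of maps from a scheme to a sheaf is etale local. -/
theorem eq_of_local {F : Sp S} {T : Over S} (x y : (yon S).obj T ⟶ F)
    (h : ∀ t : T.left, ∃ (T' : Over S) (c : T' ⟶ T), Etale c.left ∧ t ∈ Set.range c.left ∧
      (yon S).map c ≫ x = (yon S).map c ≫ y) : x = y := by
  choose T' c hc ht hxy using h
  obtain ⟨z, -, hz⟩ := K613.Basic.glueFam T' c (fun t => have := hc t; inferInstance)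
    (fun t => have := hc t; inferInstance) (fun t => ⟨t, ht t⟩) (fun t => (yon S).map (c t) ≫ x)
    (fun a b R r s hrs => by rw [← Category.assoc, ← Category.assoc, ← Functor.map_comp, ← Functor.map_comp, hrs])
  exact (hz x fun t => rfl).trans (hz y fun t => (hxy t).symm).symm

variable {Y Z V W : Sp S} {iY : Y ⟶ X} {iZ : Z ⟶ X} {iV : V ⟶ X} {iW : W ⟶ X}
  {c : V ⟶ Y} {d : V ⟶ Z} {a : Y ⟶ W} {b : Z ⟶ W}

/-- Closed subspaces `Y`, `Z` of `X`, their union `W` and their intersection `V`. -/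
structure Dat (iY : Y ⟶ X) (iZ : Z ⟶ X) (iV : V ⟶ X) (iW : W ⟶ X)
    (c : V ⟶ Y) (d : V ⟶ Z) (a : Y ⟶ W) (b : Z ⟶ W) : Prop where
  hX : IsAlgSpace X
  hY : RepWith @IsClosedImmersion iY
  hZ : RepWith @IsClosedImmersion iZ
  hV : RepWith @IsClosedImmersion iV
  hW : RepWith @IsClosedImmersion iW
  hc : c ≫ iY = iV
  hd : d ≫ iZ = iV
  ha : a ≫ iW = iY
  hb : b ≫ iW = iZ
  idW : ∀ (E : EtOver X) (hE : IsAffine E.obj.left.left),
    (idealOfRep hW.1).ideal E hE = (idealOfRep hY.1).ideal E hE ⊓ (idealOfRep hZ.1).ideal E hE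
  idV : ∀ (E : EtOver X) (hE : IsAffine E.obj.left.left),
    (idealOfRep hV.1).ideal E hE = (idealOfRep hY.1).ideal E hE ⊔ (idealOfRep hZ.1).ideal E hE

namespace Dat

theorem w (D : Dat iY iZ iV iW c d a b) : c ≫ a = d ≫ b := by
  have := K600.Ideal.mono_of_isClosedImmersion D.hW
  rw [← cancel_mono iW, Category.assoc, Category.assoc, D.ha, D.hb, D.hc, D.hd]

/-- `c` over the chart `E`. -/
noncomputable abbrev cE (D : Dat iY iZ iV iW c d a b) (E : EtOver X) := bcK D.hV.1 D.hY.1 c D.hc E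
/-- `d` over the chart `E`. -/
noncomputable abbrev dE (D : Dat iY iZ iV iW c d a b) (E : EtOver X) := bcK D.hV.1 D.hZ.1 d D.hd E
/-- `a` over the chart `E`. -/
noncomputable abbrev aE (D : Dat iY iZ iV iW c d a b) (E : EtOver X) := bcK D.hY.1 D.hW.1 a D.ha E
/-- `b` over the chart `E`. -/
noncomputable abbrev bE (D : Dat iY iZ iV iW c d a b) (E : EtOver X) := bcK D.hZ.1 D.hW.1 b D.hb E

theorem cfg (D : Dat iY iZ iV iW c d a b) (E : EtOver X) (hE : IsAffine E.obj.left.left) :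
    UnionSch.Cfg (EtOver.bcπ D.hY.1 E).left (EtOver.bcπ D.hZ.1 E).left (EtOver.bcπ D.hV.1 E).left
      (EtOver.bcπ D.hW.1 E).left (D.cE E).left (D.dE E).left (D.aE E).left (D.bE E).left where
  aff := hE
  clY := K599.BCClosed.isClosedImmersion_bcπ D.hY E
  clZ := K599.BCClosed.isClosedImmersion_bcπ D.hZ E
  clV := K599.BCClosed.isClosedImmersion_bcπ D.hV E
  clW := K599.BCClosed.isClosedImmersion_bcπ D.hW E
  hc := congrArg CommaMorphism.left (bcK_π D.hV.1 D.hY.1 c D.hc E)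
  hd := congrArg CommaMorphism.left (bcK_π D.hV.1 D.hZ.1 d D.hd E)
  ha := congrArg CommaMorphism.left (bcK_π D.hY.1 D.hW.1 a D.ha E)
  hb := congrArg CommaMorphism.left (bcK_π D.hZ.1 D.hW.1 b D.hb E)
  hW := D.idW E hE
  hV := D.idV E hE

/-- Over an affine chart of `X` we have a pushout of schemes. -/
theorem isPushout_chart (D : Dat iY iZ iV iW c d a b) (E : EtOver X) (hE : IsAffine E.obj.left.left) :
    IsPushout (D.cE E) (D.dE E) (D.aE E) (D.bE E) := by
  have h := (D.cfg E hE).isPushout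
  refine IsPushout.of_map (Over.forget S) ?_ h
  refine bcObj_hom_ext D.hW.1 ?_ ?_
  · rw [Functor.map_comp, Functor.map_comp, Category.assoc, Category.assoc, map_bcK, map_bcK, ← Category.assoc,
      ← Category.assoc, map_bcK, map_bcK, Category.assoc, Category.assoc, D.w]
  · rw [Category.assoc, Category.assoc, bcK_π, bcK_π, bcK_π, bcK_π]

/-- Uniqueness: maps from the union are determined on the two pieces. -/
theorem eq_of_eq (D : Dat iY iZ iV iW c d a b) {T : Sp S} (hT : IsAlgSpace T) (E : EtOver X)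
    (γ γ' : (yon S).obj (EtOver.bcObj D.hW.1 E).obj.left ⟶ T)
    (h₁ : (yon S).map (D.aE E) ≫ γ = (yon S).map (D.aE E) ≫ γ')
    (h₂ : (yon S).map (D.bE E) ≫ γ = (yon S).map (D.bE E) ≫ γ') : γ = γ' := by
  obtain ⟨U, p, hp, hps⟩ := hT.atlas
  refine eq_of_local γ γ' fun w => ?_
  obtain ⟨P, snd, fst, sq⟩ := hp.1 γ
  obtain ⟨fst, rfl⟩ := (yon S).map_surjective fst
  have he : Etale snd.left := hp.2 _ _ _ sq
  have hs : Surjective snd.left := hps.2 _ _ _ sq
  obtain ⟨t, ht⟩ := hs.surj w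
  obtain ⟨E', g, h, hE', hh, ⟨t', ht'⟩⟩ := EtExt.exists_lift_chart D.hW E snd he t
  refine ⟨_, (EtOver.bcMap D.hW.1 g).hom.left, EtOver.etale_left _, ⟨t', ?_⟩, ?_⟩
  · rw [← hh, Over.comp_left, Scheme.Hom.comp_apply, ht', ht]
  -- the lift of `γ` to `U`
  let γ₁ := h ≫ fst
  have hγ₁ : (yon S).map γ₁ ≫ p = (yon S).map (EtOver.bcMap D.hW.1 g).hom.left ≫ γ := by
    rw [← hh, Functor.map_comp, Functor.map_comp, Category.assoc, Category.assoc, sq.w]
  -- the pullback for `γ'`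
  obtain ⟨P', snd', fst', sq'⟩ := hp.1 ((yon S).map (EtOver.bcMap D.hW.1 g).hom.left ≫ γ')
  obtain ⟨fst', rfl⟩ := (yon S).map_surjective fst'
  obtain ⟨sY, hsY1, hsY2⟩ := Basic.exists_lift sq' ((yon S).map (D.aE E' ≫ γ₁)) (D.aE E') (by
    rw [Functor.map_comp, Category.assoc, hγ₁, ← Category.assoc, ← Functor.map_comp, ← bcMap_bcK,
      Functor.map_comp, Category.assoc, h₁, ← Category.assoc, ← Category.assoc, ← Functor.map_comp,
      ← Functor.map_comp, ← bcMap_bcK])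
  obtain ⟨sZ, hsZ1, hsZ2⟩ := Basic.exists_lift sq' ((yon S).map (D.bE E' ≫ γ₁)) (D.bE E') (by
    rw [Functor.map_comp, Category.assoc, hγ₁, ← Category.assoc, ← Functor.map_comp, ← bcMap_bcK,
      Functor.map_comp, Category.assoc, h₂, ← Category.assoc, ← Category.assoc, ← Functor.map_comp,
      ← Functor.map_comp, ← bcMap_bcK])
  rw [← Functor.map_comp] at hsY1 hsZ1
  replace hsY1 := (yon S).map_injective hsY1
  replace hsZ1 := (yon S).map_injective hsZ1
  have hpo := D.isPushout_chart E' hE'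
  have hagree : D.cE E' ≫ sY = D.dE E' ≫ sZ := by
    refine Basic.hom_ext sq' ?_ ?_
    · rw [← Functor.map_comp, ← Functor.map_comp, Category.assoc, Category.assoc, hsY1, hsZ1, ← Category.assoc,
        hpo.w, Category.assoc]
    · rw [Category.assoc, Category.assoc, hsY2, hsZ2, hpo.w]
  let s := hpo.desc sY sZ hagree
  have hs1 : D.aE E' ≫ s = sY := hpo.inl_desc _ _ _
  have hs2 : D.bE E' ≫ s = sZ := hpo.inr_desc _ _ _
  have e1 : s ≫ snd' = 𝟙 _ := by
    apply hpo.hom_ext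
    · rw [← Category.assoc, hs1, hsY2, Category.comp_id]
    · rw [← Category.assoc, hs2, hsZ2, Category.comp_id]
  have e2 : s ≫ fst' = γ₁ := by
    apply hpo.hom_ext
    · rw [← Category.assoc, hs1, hsY1]
    · rw [← Category.assoc, hs2, hsZ1]
  rw [← hγ₁, ← e2, Functor.map_comp, Category.assoc, sq'.w, ← Category.assoc, ← Functor.map_comp, e1,
    CategoryTheory.Functor.map_id, Category.id_comp]

section Good

variable (D : Dat iY iZ iV iW c d a b) {T : Sp S} (fY : Y ⟶ T) (fZ : Z ⟶ T)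

/-- `γ` is a map from `W_E` restricting to the given maps on `Y_E` and `Z_E`. -/
structure Good (E : EtOver X) (γ : (yon S).obj (EtOver.bcObj D.hW.1 E).obj.left ⟶ T) : Prop where
  hY : (yon S).map (D.aE E) ≫ γ = (EtOver.bcObj D.hY.1 E).obj.hom ≫ fY
  hZ : (yon S).map (D.bE E) ≫ γ = (EtOver.bcObj D.hZ.1 E).obj.hom ≫ fZ

variable {D fY fZ}

theorem Good.restr {E E' : EtOver X} {γ : (yon S).obj (EtOver.bcObj D.hW.1 E).obj.left ⟶ T}
    (h : Good D fY fZ E γ) (g : E' ⟶ E) :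
    Good D fY fZ E' ((yon S).map (EtOver.bcMap D.hW.1 g).hom.left ≫ γ) where
  hY := by
    rw [← Category.assoc, ← Functor.map_comp, ← bcMap_bcK, Functor.map_comp, Category.assoc, h.hY,
      ← Category.assoc, EtOver.w (EtOver.bcMap D.hY.1 g)]
  hZ := by
    rw [← Category.assoc, ← Functor.map_comp, ← bcMap_bcK, Functor.map_comp, Category.assoc, h.hZ,
      ← Category.assoc, EtOver.w (EtOver.bcMap D.hZ.1 g)]

theorem Good.unique {E : EtOver X} {γ γ' : (yon S).obj (EtOver.bcObj D.hW.1 E).obj.left ⟶ T}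
    (hT : IsAlgSpace T) (h : Good D fY fZ E γ) (h' : Good D fY fZ E γ') : γ = γ' :=
  D.eq_of_eq hT E γ γ' (h.hY.trans h'.hY.symm) (h.hZ.trans h'.hZ.symm)

variable (D)

include D in
theorem agree (hf : c ≫ fY = d ≫ fZ) (E : EtOver X) :
    (yon S).map (D.cE E) ≫ (EtOver.bcObj D.hY.1 E).obj.hom ≫ fY =
      (yon S).map (D.dE E) ≫ (EtOver.bcObj D.hZ.1 E).obj.hom ≫ fZ := by
  rw [← Category.assoc, map_bcK, ← Category.assoc, map_bcK, Category.assoc, Category.assoc, hf]

/-- Local existence away from the intersection. -/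
theorem exists_good_of_isEmpty (E : EtOver X) (hE : IsAffine E.obj.left.left)
    (hV : IsEmpty (EtOver.bcObj D.hV.1 E).obj.left.left) : ∃ γ, Good D fY fZ E γ := by
  have hcfg := D.cfg E hE
  obtain ⟨ha, hb⟩ := hcfg.isOpenImmersion_of_isEmpty hV
  have hpo := D.isPushout_chart E hE
  let Q : ULift.{u} Bool → Over S := fun x => if x.down then (EtOver.bcObj D.hY.1 E).obj.left
    else (EtOver.bcObj D.hZ.1 E).obj.left
  let q : ∀ x, Q x ⟶ (EtOver.bcObj D.hW.1 E).obj.left := fun x => match x with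
    | ⟨true⟩ => D.aE E
    | ⟨false⟩ => D.bE E
  let φ : ∀ x, (yon S).obj (Q x) ⟶ T := fun x => match x with
    | ⟨true⟩ => (EtOver.bcObj D.hY.1 E).obj.hom ≫ fY
    | ⟨false⟩ => (EtOver.bcObj D.hZ.1 E).obj.hom ≫ fZ
  have key : ∀ (R : Over S) (r : R ⟶ (EtOver.bcObj D.hY.1 E).obj.left)
      (s : R ⟶ (EtOver.bcObj D.hZ.1 E).obj.left), r ≫ D.aE E = s ≫ D.bE E →
      (yon S).map r ≫ (EtOver.bcObj D.hY.1 E).obj.hom ≫ fY =
        (yon S).map s ≫ (EtOver.bcObj D.hZ.1 E).obj.hom ≫ fZ := by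
    intro R r s hrs
    -- `R` is empty
    have hR : IsEmpty R.left := by
      refine ⟨fun x => ?_⟩
      obtain ⟨v, -⟩ := hcfg.exists_pt_V (r.left x) (s.left x) (by
        rw [← hcfg.ha, ← hcfg.hb, ← Scheme.Hom.comp_apply, ← Scheme.Hom.comp_apply]
        have := congrArg CommaMorphism.left hrs
        simp only [Over.comp_left] at this
        rw [← Category.assoc, ← Category.assoc, this])
      exact hV.false v
    exact eq_of_local _ _ fun t => (hR.false t).elim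
  obtain ⟨γ, hγ, -⟩ := K613.Basic.glueFam Q q (fun x => by
      rcases x with ⟨_ | _⟩
      · have := hb; exact inferInstanceAs (Flat (D.bE E).left)
      · have := ha; exact inferInstanceAs (Flat (D.aE E).left))
    (fun x => by
      rcases x with ⟨_ | _⟩
      · have := hb; exact inferInstanceAs (LocallyOfFinitePresentation (D.bE E).left)
      · have := ha; exact inferInstanceAs (LocallyOfFinitePresentation (D.aE E).left))
    (fun t => by
      rcases hcfg.exists_pt t with ⟨y, hy⟩ | ⟨z, hz⟩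
      · exact ⟨⟨true⟩, y, hy⟩
      · exact ⟨⟨false⟩, z, hz⟩) φ (fun x y R r s hrs => by
      rcases x with ⟨_ | _⟩ <;> rcases y with ⟨_ | _⟩
      · have : r = s := by
          have hm : Mono (D.bE E).left := by have := hb; infer_instance
          have := congrArg CommaMorphism.left hrs
          ext1
          exact (cancel_mono (D.bE E).left).1 this
        rw [this]
      · exact (key R s r hrs.symm).symm
      · exact key R r s hrs
      · have : r = s := by
          have hm : Mono (D.aE E).left := by have := ha; infer_instance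
          have := congrArg CommaMorphism.left hrs
          ext1
          exact (cancel_mono (D.aE E).left).1 this
        rw [this])
  exact ⟨γ, hγ ⟨true⟩, hγ ⟨false⟩⟩

/-- The point of `F_{E'}` over compatible points of `F_E` and `E'`. -/
theorem exists_bc_point {F : Sp S} {i : F ⟶ X} (hi : Representable i) {E' E : EtOver X} (g : E' ⟶ E)
    (x : (EtOver.bcObj hi E).obj.left.left) (e : E'.obj.left.left)
    (h : (EtOver.bcπ hi E).left x = g.hom.left.left e) :
    ∃ x' : (EtOver.bcObj hi E').obj.left.left, (EtOver.bcMap hi g).hom.left.left x' = x ∧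
      (EtOver.bcπ hi E').left x' = e := by
  obtain ⟨x', h1, h2⟩ := Scheme.exists_preimage_of_isPullback (EtOver.isPullback_bcMap_left hi g) x e h
  exact ⟨x', h1, h2⟩

/-- Local existence at a point of the intersection. -/
theorem exists_good_of_mem (hT : IsAlgSpace T) (hf : c ≫ fY = d ≫ fZ) (E : EtOver X)
    (hE : IsAffine E.obj.left.left) (v : (EtOver.bcObj D.hV.1 E).obj.left.left) :
    ∃ (E' : EtOver X) (g : E' ⟶ E) (_ : IsAffine E'.obj.left.left) (γ : _) (w' : (EtOver.bcObj D.hW.1 E').obj.left.left),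
      Good D fY fZ E' γ ∧ (EtOver.bcMap D.hW.1 g).hom.left.left w' = (D.aE E).left ((D.cE E).left v) := by
  obtain ⟨U, p, hp, hps⟩ := hT.atlas
  have hcfg := D.cfg E hE
  -- lift on the `Y` side
  obtain ⟨P, snd, fst, sq⟩ := hp.1 ((EtOver.bcObj D.hY.1 E).obj.hom ≫ fY)
  obtain ⟨fst, rfl⟩ := (yon S).map_surjective fst
  have he : Etale snd.left := hp.2 _ _ _ sq
  have hs : Surjective snd.left := hps.2 _ _ _ sq
  obtain ⟨t, ht⟩ := hs.surj ((D.cE E).left v)
  obtain ⟨E₁, g₁, h₁, hE₁, hh₁, ⟨y₁, hy₁⟩⟩ := EtExt.exists_lift_chart D.hY E snd he t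
  have hcfg₁ := D.cfg E₁ hE₁
  let α₁ := h₁ ≫ fst
  have hα₁ : (yon S).map α₁ ≫ p = (EtOver.bcObj D.hY.1 E₁).obj.hom ≫ fY := by
    rw [Functor.map_comp, Category.assoc, sq.w, ← Category.assoc, ← Category.assoc, ← Functor.map_comp, hh₁,
      EtOver.w (EtOver.bcMap D.hY.1 g₁)]
  have hy₁' : (EtOver.bcMap D.hY.1 g₁).hom.left.left y₁ = (D.cE E).left v := by
    rw [← hh₁, Over.comp_left, Scheme.Hom.comp_apply, hy₁, ht]
  -- the point of `V` over `E₁`
  obtain ⟨z₁, hz₁, hz₁'⟩ := exists_bc_point D.hZ.1 g₁ ((D.dE E).left v) ((EtOver.bcπ D.hY.1 E₁).left y₁) (by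
    have h1 : (EtOver.bcπ D.hZ.1 E).left ((D.dE E).left v) = (EtOver.bcπ D.hY.1 E).left ((D.cE E).left v) := by
      rw [← Scheme.Hom.comp_apply, ← Scheme.Hom.comp_apply, hcfg.hc, hcfg.hd]
    rw [h1, ← hy₁', ← Scheme.Hom.comp_apply, ← Scheme.Hom.comp_apply]
    have := congrArg CommaMorphism.left (EtOver.bcMap_snd D.hY.1 g₁)
    simp only [Over.comp_left] at this
    rw [this])
  obtain ⟨v₁, hv₁, hv₁'⟩ := hcfg₁.exists_pt_V y₁ z₁ hz₁'.symm
  -- the section over `V`
  obtain ⟨Q, snd', fst', sq'⟩ := hp.1 ((EtOver.bcObj D.hZ.1 E₁).obj.hom ≫ fZ)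
  obtain ⟨fst', rfl⟩ := (yon S).map_surjective fst'
  have he' : Etale snd'.left := hp.2 _ _ _ sq'
  obtain ⟨s, hs1, hs2⟩ := Basic.exists_lift sq' ((yon S).map (D.cE E₁ ≫ α₁)) (D.dE E₁) (by
    rw [Functor.map_comp, Category.assoc, hα₁]
    exact agree D hf E₁)
  replace hs1 : s ≫ fst' = D.cE E₁ ≫ α₁ := (yon S).map_injective (by rw [Functor.map_comp]; exact hs1)
  have hcl : IsClosedImmersion (D.dE E₁).left := by
    have h1 := hcfg₁.clZ
    have h2 := hcfg₁.clV
    have h3 := hcfg₁.hd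
    have : IsClosedImmersion ((D.dE E₁).left ≫ (EtOver.bcπ D.hZ.1 E₁).left) := by rw [h3]; exact h2
    exact IsClosedImmersion.of_comp (D.dE E₁).left (EtOver.bcπ D.hZ.1 E₁).left
  obtain ⟨O, s', hs', sqO⟩ := EtExt.exists_open_of_section (D.dE E₁).left snd'.left s.left
    (congrArg CommaMorphism.left hs2)
  let O' : Over S := Over.mk (O.ι ≫ Q.hom)
  let ι : O' ⟶ Q := Over.homMk O.ι rfl
  let s'' : (EtOver.bcObj D.hV.1 E₁).obj.left ⟶ O' := Over.homMk s' (by
    change s' ≫ O.ι ≫ Q.hom = _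
    rw [← Category.assoc, hs']; exact Over.w s)
  have hs'' : s'' ≫ ι = s := by ext1; exact hs'
  have hO : Etale (ι ≫ snd').left := inferInstanceAs (Etale (O.ι ≫ snd'.left))
  obtain ⟨E₂, g₂, h₂, hE₂, hh₂, ⟨z₂, hz₂⟩⟩ := EtExt.exists_lift_chart D.hZ E₁ (ι ≫ snd') hO (s'.base v₁)
  have hpo := D.isPushout_chart E₂ hE₂
  have key : D.dE E₂ ≫ h₂ = (EtOver.bcMap D.hV.1 g₂).hom.left ≫ s'' := by
    have e1 : (D.dE E₂ ≫ h₂) ≫ ι ≫ snd' = (EtOver.bcMap D.hV.1 g₂).hom.left ≫ D.dE E₁ := by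
      rw [Category.assoc, hh₂, bcMap_bcK]
    have e2 := congrArg CommaMorphism.left e1
    simp only [Over.comp_left] at e2
    ext1
    have e3 : (sqO.lift (D.dE E₂ ≫ h₂).left (EtOver.bcMap D.hV.1 g₂).hom.left.left e2) =
        (EtOver.bcMap D.hV.1 g₂).hom.left.left := by
      have := sqO.lift_snd (D.dE E₂ ≫ h₂).left (EtOver.bcMap D.hV.1 g₂).hom.left.left e2
      rwa [Category.comp_id] at this
    have e4 := sqO.lift_fst (D.dE E₂ ≫ h₂).left (EtOver.bcMap D.hV.1 g₂).hom.left.left e2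
    rw [e3] at e4
    exact e4.symm
  let γ := hpo.desc ((EtOver.bcMap D.hY.1 g₂).hom.left ≫ α₁) (h₂ ≫ ι ≫ fst') (by
    rw [← Category.assoc, ← bcMap_bcK, Category.assoc, ← hs1, ← hs'', ← Category.assoc, ← Category.assoc,
      ← key, Category.assoc, Category.assoc])
  have hγ1 : D.aE E₂ ≫ γ = (EtOver.bcMap D.hY.1 g₂).hom.left ≫ α₁ := hpo.inl_desc _ _ _
  have hγ2 : D.bE E₂ ≫ γ = h₂ ≫ ι ≫ fst' := hpo.inr_desc _ _ _
  refine ⟨E₂, g₂ ≫ g₁, hE₂, (yon S).map γ ≫ p, (D.bE E₂).left z₂, ⟨?_, ?_⟩, ?_⟩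
  · rw [← Category.assoc, ← Functor.map_comp, hγ1, Functor.map_comp, Category.assoc, hα₁, ← Category.assoc,
      EtOver.w (EtOver.bcMap D.hY.1 g₂)]
  · have e5 : (yon S).map h₂ ≫ (yon S).map ι ≫ (yon S).map snd' =
        (yon S).map (EtOver.bcMap D.hZ.1 g₂).hom.left := by
      rw [← Functor.map_comp, ← Functor.map_comp, hh₂]
    rw [← Category.assoc, ← Functor.map_comp, hγ2, Functor.map_comp, Functor.map_comp, Category.assoc,
      Category.assoc, sq'.w, ← EtOver.w (EtOver.bcMap D.hZ.1 g₂), ← e5]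
    simp only [Category.assoc]
  · have f1 : (EtOver.bcMap D.hZ.1 (g₂ ≫ g₁)).hom.left.left z₂ = (D.dE E).left v := by
      have f2 : (EtOver.bcMap D.hZ.1 (g₂ ≫ g₁)) = EtOver.bcMap D.hZ.1 g₂ ≫ EtOver.bcMap D.hZ.1 g₁ :=
        (EtOver.bc D.hZ.1).map_comp g₂ g₁
      have f3 : (EtOver.bcMap D.hZ.1 g₂).hom.left.left z₂ = z₁ := by
        have f4 : (EtOver.bcMap D.hZ.1 g₂).hom.left.left z₂ = snd'.left (ι.left (h₂.left z₂)) := by
          rw [← hh₂]; rfl
        rw [f4, hz₂, ← hv₁', ← hs2, ← hs'']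
        rfl
      rw [f2]
      change (EtOver.bcMap D.hZ.1 g₁).hom.left.left ((EtOver.bcMap D.hZ.1 g₂).hom.left.left z₂) = _
      rw [f3, hz₁]
    have f5 := congrArg CommaMorphism.left (bcMap_bcK D.hZ.1 D.hW.1 b D.hb (g₂ ≫ g₁))
    have f6 : (D.bE E).left ((EtOver.bcMap D.hZ.1 (g₂ ≫ g₁)).hom.left.left z₂) =
        (EtOver.bcMap D.hW.1 (g₂ ≫ g₁)).hom.left.left ((D.bE E₂).left z₂) :=
      congrArg (fun k => k.base z₂) f5
    rw [← f6, f1, ← Scheme.Hom.comp_apply, ← Scheme.Hom.comp_apply, hcfg.w]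

/-- Local existence at every point of the union. -/
theorem exists_good (hT : IsAlgSpace T) (hf : c ≫ fY = d ≫ fZ) (E : EtOver X)
    (hE : IsAffine E.obj.left.left) (w : (EtOver.bcObj D.hW.1 E).obj.left.left) :
    ∃ (E' : EtOver X) (g : E' ⟶ E) (_ : IsAffine E'.obj.left.left) (γ : _) (w' : (EtOver.bcObj D.hW.1 E').obj.left.left),
      Good D fY fZ E' γ ∧ (EtOver.bcMap D.hW.1 g).hom.left.left w' = w := by
  by_cases h : ∃ v : (EtOver.bcObj D.hV.1 E).obj.left.left, (D.aE E).left ((D.cE E).left v) = w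
  · obtain ⟨v, rfl⟩ := h
    exact D.exists_good_of_mem hT hf E hE v
  · have hcfg := D.cfg E hE
    have hcV := hcfg.clV
    have hcW := hcfg.clW
    have hnm : (EtOver.bcπ D.hW.1 E).left w ∈ (Set.range (EtOver.bcπ D.hV.1 E).left)ᶜ := by
      rintro ⟨v, hv⟩
      refine h ⟨v, (EtOver.bcπ D.hW.1 E).left.isClosedEmbedding.injective ?_⟩
      rw [← hv, ← Scheme.Hom.comp_apply, ← Scheme.Hom.comp_apply, hcfg.ha, hcfg.hc]
    let N : E.obj.left.left.Opens := ⟨(Set.range (EtOver.bcπ D.hV.1 E).left)ᶜ,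
      (EtOver.bcπ D.hV.1 E).left.isClosedEmbedding.isClosed_range.isOpen_compl⟩
    obtain ⟨O, hO, heO, hON⟩ := exists_isAffineOpen_mem_and_subset (X := E.obj.left.left)
      (x := (EtOver.bcπ D.hW.1 E).left w) (U := N) hnm
    let E' := K599.EtSite.openSub E O
    let g : E' ⟶ E := K599.EtSite.openSubι E O
    have hE' : IsAffine E'.obj.left.left := hO
    obtain ⟨w', hw', -⟩ := exists_bc_point D.hW.1 g w ⟨_, heO⟩ rfl
    have hV' : IsEmpty (EtOver.bcObj D.hV.1 E').obj.left.left := by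
      refine ⟨fun v' => ?_⟩
      have h1 := congrArg CommaMorphism.left (EtOver.bcMap_snd D.hV.1 g)
      have h2 : (EtOver.bcπ D.hV.1 E).left ((EtOver.bcMap D.hV.1 g).hom.left.left v') =
        O.ι ((EtOver.bcπ D.hV.1 E').left v') := congrArg (fun k => k.base v') h1
      have h3 : O.ι ((EtOver.bcπ D.hV.1 E').left v') ∈ N := hON ((EtOver.bcπ D.hV.1 E').left v').2
      exact h3 ⟨_, h2⟩
    obtain ⟨γ, hγ⟩ := D.exists_good_of_isEmpty (fY := fY) (fZ := fZ) E' hE' hV'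
    exact ⟨E', g, hE', γ, w', hγ, hw'⟩

/-- Every point of the union lies on a good chart. -/
theorem exists_good_point (hT : IsAlgSpace T) (hf : c ≫ fY = d ≫ fZ) (ω : Points W) :
    ∃ (E : EtOver X) (_ : IsAffine E.obj.left.left) (γ : _) (w : (EtOver.bcObj D.hW.1 E).obj.left.left),
      Good D fY fZ E γ ∧ Points.ofPt (EtOver.bcObj D.hW.1 E).obj.hom w = ω := by
  obtain ⟨U, p, hp, hps⟩ := D.hX.atlas
  obtain ⟨j, e, he⟩ := Ideal.exists_affChart hp hps (Points.map iW ω)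
  let E := Ideal.affChart hp j
  have hE := Ideal.isAffine_affChart hp j
  obtain ⟨z, hz1, hz2⟩ := K616.Refine.exists_point_of_isPullback (EtOver.isPullback_bcObj D.hW.1 E) ω
    (Points.ofScheme _ e) (by rw [← he, Points.ofPt_eq_map_ofScheme])
  obtain ⟨w, rfl⟩ := K616.Refine.exists_ofPt_of_yon z
  obtain ⟨E', g, hE', γ, w', hγ, hw'⟩ := D.exists_good hT hf E hE w
  refine ⟨E', hE', γ, w', hγ, ?_⟩
  rw [← hz1, Points.map_ofPt, Category.id_comp, ← hw', ← K616.Refine.ofPt_comp, EtOver.w (EtOver.bcMap D.hW.1 g)]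

/-- Two good maps agree on every scheme mapping to both charts over `W`. -/
theorem good_agree (hT : IsAlgSpace T) {E₁ E₂ : EtOver X} {γ₁ γ₂ : _} (h₁ : Good D fY fZ E₁ γ₁)
    (h₂ : Good D fY fZ E₂ γ₂) {R : Over S} (u : R ⟶ (EtOver.bcObj D.hW.1 E₁).obj.left)
    (v : R ⟶ (EtOver.bcObj D.hW.1 E₂).obj.left)
    (huv : (yon S).map u ≫ (EtOver.bcObj D.hW.1 E₁).obj.hom = (yon S).map v ≫ (EtOver.bcObj D.hW.1 E₂).obj.hom) :
    (yon S).map u ≫ γ₁ = (yon S).map v ≫ γ₂ := by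
  let P := EtOver.prodObj E₁ E₂
  -- the map to the product of the charts
  have hm : (yon S).map (u ≫ EtOver.bcπ D.hW.1 E₁) ≫ E₁.obj.hom =
      (yon S).map (v ≫ EtOver.bcπ D.hW.1 E₂) ≫ E₂.obj.hom := by
    rw [Functor.map_comp, Functor.map_comp, Category.assoc, Category.assoc,
      ← (EtOver.isPullback_bcObj D.hW.1 E₁).w, ← (EtOver.isPullback_bcObj D.hW.1 E₂).w, ← Category.assoc,
      ← Category.assoc, huv]
  let m : R ⟶ P.obj.left := E₂.property.1.lift' (v ≫ EtOver.bcπ D.hW.1 E₂) (u ≫ EtOver.bcπ D.hW.1 E₁) hm.symm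
  have hm1 : m ≫ (EtOver.prodFst E₁ E₂).hom.left = u ≫ EtOver.bcπ D.hW.1 E₁ :=
    Functor.relativelyRepresentable.lift'_snd _ _ _ _
  have hm2 : m ≫ (EtOver.prodSnd E₁ E₂).hom.left = v ≫ EtOver.bcπ D.hW.1 E₂ :=
    Functor.relativelyRepresentable.lift'_fst _ _ _ _
  obtain ⟨n, hn1, hn2⟩ := Basic.exists_lift (EtOver.isPullback_bcObj D.hW.1 P)
    ((yon S).map u ≫ (EtOver.bcObj D.hW.1 E₁).obj.hom) m (by
      rw [Category.assoc, (EtOver.isPullback_bcObj D.hW.1 E₁).w, ← Category.assoc, ← Functor.map_comp, ← hm1,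
        Functor.map_comp, Category.assoc, EtOver.w])
  have hn1' : n ≫ (EtOver.bcMap D.hW.1 (EtOver.prodFst E₁ E₂)).hom.left = u := by
    refine bcObj_hom_ext D.hW.1 ?_ ?_
    · rw [Functor.map_comp, Category.assoc, EtOver.w (EtOver.bcMap D.hW.1 (EtOver.prodFst E₁ E₂))]; exact hn1
    · rw [Category.assoc, EtOver.bcMap_snd, ← Category.assoc]
      refine Eq.trans ?_ hm1
      exact congrArg (· ≫ (EtOver.prodFst E₁ E₂).hom.left) hn2
  have hn2' : n ≫ (EtOver.bcMap D.hW.1 (EtOver.prodSnd E₁ E₂)).hom.left = v := by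
    refine bcObj_hom_ext D.hW.1 ?_ ?_
    · rw [Functor.map_comp, Category.assoc, EtOver.w (EtOver.bcMap D.hW.1 (EtOver.prodSnd E₁ E₂)), ← huv]; exact hn1
    · rw [Category.assoc, EtOver.bcMap_snd, ← Category.assoc]
      refine Eq.trans ?_ hm2
      exact congrArg (· ≫ (EtOver.prodSnd E₁ E₂).hom.left) hn2
  have key := Good.unique hT (h₁.restr (EtOver.prodFst E₁ E₂)) (h₂.restr (EtOver.prodSnd E₁ E₂))
  rw [← hn1', ← hn2', Functor.map_comp, Functor.map_comp, Category.assoc, Category.assoc, key]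

end Good

/-- The family of good charts. -/
structure Idx (D : Dat iY iZ iV iW c d a b) {T : Sp S} (fY : Y ⟶ T) (fZ : Z ⟶ T) where
  /-- the chart -/
  E : EtOver X
  /-- the map -/
  γ : (yon S).obj (EtOver.bcObj D.hW.1 E).obj.left ⟶ T
  good : Good D fY fZ E γ

open K642.Glue in
theorem jls (D : Dat iY iZ iV iW c d a b) {T : Sp S} (fY : Y ⟶ T) (fZ : Z ⟶ T) (hT : IsAlgSpace T)
    (hf : c ≫ fY = d ≫ fZ) :
    JLS (J := AlgSp.J S) (fun x : Idx D fY fZ => (yon S).obj (EtOver.bcObj D.hW.1 x.E).obj.left)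
      (fun x => (EtOver.bcObj D.hW.1 x.E).obj.hom) :=
  K642.EtCov.jls_of_repWith_etale _ (fun x => (EtOver.bcObj D.hW.1 x.E).property) fun ω => by
    obtain ⟨E, -, γ, w, h, hw⟩ := D.exists_good_point hT hf ω
    exact ⟨⟨E, γ, h⟩, w, hw⟩

open K642.Glue in
/-- The union is a pushout. -/
theorem existsUnique_hom (D : Dat iY iZ iV iW c d a b) {T : Sp S} (fY : Y ⟶ T) (fZ : Z ⟶ T) (hT : IsAlgSpace T)
    (hf : c ≫ fY = d ≫ fZ) : ∃! h : W ⟶ T, a ≫ h = fY ∧ b ≫ h = fZ := by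
  have hj := D.jls fY fZ hT hf
  obtain ⟨h, hh, -⟩ := hj.exists_hom_of_isPullback (fun x => x.γ)
    (fun x y => pullback (EtOver.bcObj D.hW.1 x.E).obj.hom (EtOver.bcObj D.hW.1 y.E).obj.hom)
    (fun x y => pullback.fst _ _) (fun x y => pullback.snd _ _) (fun x y => IsPullback.of_hasPullback _ _)
    (fun x y => by
      refine K613.Basic.hom_ext fun R r => ?_
      obtain ⟨u, hu⟩ := (yon S).map_surjective (r ≫ pullback.fst _ _)
      obtain ⟨v, hv⟩ := (yon S).map_surjective (r ≫ pullback.snd _ _)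
      have := D.good_agree hT x.good y.good u v (by
        rw [hu, hv, Category.assoc, Category.assoc, pullback.condition])
      rw [hu, hv] at this
      rw [← Category.assoc, ← Category.assoc]
      exact this)
  refine ⟨h, ⟨?_, ?_⟩, ?_⟩
  · have hY := hj.baseChange a (fun x => (yon S).map (D.aE x.E)) (fun x => (EtOver.bcObj D.hY.1 x.E).obj.hom)
      (fun x => isPullback_bcK D.hY.1 D.hW.1 a D.ha x.E)
    refine hY.hom_ext fun x => ?_
    rw [← Category.assoc, ← map_bcK D.hY.1 D.hW.1 a D.ha, Category.assoc, hh, x.good.hY]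
  · have hZ := hj.baseChange b (fun x => (yon S).map (D.bE x.E)) (fun x => (EtOver.bcObj D.hZ.1 x.E).obj.hom)
      (fun x => isPullback_bcK D.hZ.1 D.hW.1 b D.hb x.E)
    refine hZ.hom_ext fun x => ?_
    rw [← Category.assoc, ← map_bcK D.hZ.1 D.hW.1 b D.hb, Category.assoc, hh, x.good.hZ]
  · rintro h' ⟨h1, h2⟩
    refine hj.hom_ext fun x => ?_
    rw [hh]
    refine D.eq_of_eq hT x.E _ _ ?_ ?_
    · rw [← Category.assoc, map_bcK, Category.assoc, h1, x.good.hY]
    · rw [← Category.assoc, map_bcK, Category.assoc, h2, x.good.hZ]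

end Dat

end K600.Union
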