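import Groth.Agent.FlatB.PushSpec
import Mathlib.AlgebraicGeometry.Morphisms.ClosedImmersion
import Mathlib.AlgebraicGeometry.Limits
import Mathlib.AlgebraicGeometry.IdealSheaf.Functorial

/-!
# The scheme theoretic union of two closed subschemes of an affine scheme is a pushout
-/

universe u

open CategoryTheory CategoryTheory.Limits AlgebraicGeometry Opposite
open Groth.Agent.FlatB.PushRing

set_option backward.isDefEq.respectTransparency false

namespace K600.UnionSch

variable {E Y Z V W : Scheme.{u}}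

theorem appTop_comp_apply {A B C : Scheme.{u}} (f : A ⟶ B) (g : B ⟶ C) (x : Γ(C, ⊤)) :
    (f ≫ g).appTop.hom x = f.appTop.hom (g.appTop.hom x) := by
  rw [Scheme.Hom.comp_appTop]; rfl

theorem appTop_surjective [IsAffine E] (i : Y ⟶ E) [IsClosedImmersion i] : Function.Surjective i.appTop.hom := by
  have := i.app_surjective ⊤ (isAffineOpen_top E)
  exact this

/-- The configuration of closed subschemes `Y`, `Z`, `V = Y ∩ Z` and `W = Y ∪ Z` of an affine scheme `E`. -/
structure Cfg (iY : Y ⟶ E) (iZ : Z ⟶ E) (iV : V ⟶ E) (iW : W ⟶ E) (c : V ⟶ Y) (d : V ⟶ Z) (a : Y ⟶ W)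
    (b : Z ⟶ W) : Prop where
  aff : IsAffine E
  clY : IsClosedImmersion iY
  clZ : IsClosedImmersion iZ
  clV : IsClosedImmersion iV
  clW : IsClosedImmersion iW
  hc : c ≫ iY = iV
  hd : d ≫ iZ = iV
  ha : a ≫ iW = iY
  hb : b ≫ iW = iZ
  hW : RingHom.ker iW.appTop.hom = RingHom.ker iY.appTop.hom ⊓ RingHom.ker iZ.appTop.hom
  hV : RingHom.ker iV.appTop.hom = RingHom.ker iY.appTop.hom ⊔ RingHom.ker iZ.appTop.hom

namespace Cfg

variable {iY : Y ⟶ E} {iZ : Z ⟶ E} {iV : V ⟶ E} {iW : W ⟶ E} {c : V ⟶ Y} {d : V ⟶ Z} {a : Y ⟶ W} {b : Z ⟶ W}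

theorem w (h : Cfg iY iZ iV iW c d a b) : c ≫ a = d ≫ b := by
  have := h.clW
  rw [← cancel_mono iW, Category.assoc, Category.assoc, h.ha, h.hb, h.hc, h.hd]

theorem isAffineHom_of_closed {A B : Scheme.{u}} (i : A ⟶ B) [IsClosedImmersion i] [IsAffine B] : IsAffine A :=
  isAffine_of_isAffineHom i

theorem isPushout (h : Cfg iY iZ iV iW c d a b) : IsPushout c d a b := by
  have h1 := h.aff
  have h2 := h.clY
  have h3 := h.clZ
  have h4 := h.clV
  have h5 := h.clW
  have aY : IsAffine Y := isAffineHom_of_closed iY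
  have aZ : IsAffine Z := isAffineHom_of_closed iZ
  have aV : IsAffine V := isAffineHom_of_closed iV
  have aW : IsAffine W := isAffineHom_of_closed iW
  let p : Γ(Y, ⊤) →+* Γ(V, ⊤) := c.appTop.hom
  let q : Γ(Z, ⊤) →+* Γ(V, ⊤) := d.appTop.hom
  have hp : Function.Surjective p := by
    intro x
    obtain ⟨y, rfl⟩ := appTop_surjective iV x
    refine ⟨iY.appTop.hom y, ?_⟩
    rw [← h.hc, appTop_comp_apply]
  have hcomm : p.comp a.appTop.hom = q.comp b.appTop.hom := by
    have := congrArg (fun k => k.appTop.hom) h.w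
    simpa [Scheme.Hom.comp_appTop] using this
  let e : Γ(W, ⊤) →+* eqL p q := eqL.lift a.appTop.hom b.appTop.hom hcomm
  have ha' : ∀ x, a.appTop.hom (iW.appTop.hom x) = iY.appTop.hom x := fun x => by
    rw [← h.ha, appTop_comp_apply]
  have hb' : ∀ x, b.appTop.hom (iW.appTop.hom x) = iZ.appTop.hom x := fun x => by
    rw [← h.hb, appTop_comp_apply]
  have he : Function.Bijective e := by
    constructor
    · rw [injective_iff_map_eq_zero]
      intro x hx
      obtain ⟨y, rfl⟩ := appTop_surjective iW x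
      have e1 : a.appTop.hom (iW.appTop.hom y) = 0 := congrArg (fun z => z.1.1) hx
      have e2 : b.appTop.hom (iW.appTop.hom y) = 0 := congrArg (fun z => z.1.2) hx
      rw [ha'] at e1
      rw [hb'] at e2
      have : y ∈ RingHom.ker iW.appTop.hom := by
        rw [h.hW]
        exact ⟨e1, e2⟩
      exact this
    · rintro ⟨⟨x, y⟩, hxy⟩
      obtain ⟨x, rfl⟩ := appTop_surjective iY x
      obtain ⟨y, rfl⟩ := appTop_surjective iZ y
      have hxy' : c.appTop.hom (iY.appTop.hom x) = d.appTop.hom (iZ.appTop.hom y) := hxy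
      rw [← appTop_comp_apply, ← appTop_comp_apply, h.hc, h.hd] at hxy'
      have h6 : x - y ∈ RingHom.ker iV.appTop.hom := by
        rw [RingHom.mem_ker, map_sub, hxy', sub_self]
      rw [h.hV, Submodule.mem_sup] at h6
      obtain ⟨i, hi, j, hj, hij⟩ := h6
      refine ⟨iW.appTop.hom (x - i), eqL.ext ?_ ?_⟩
      · change a.appTop.hom (iW.appTop.hom (x - i)) = iY.appTop.hom x
        rw [ha', map_sub, (RingHom.mem_ker).1 hi, sub_zero]
      · change b.appTop.hom (iW.appTop.hom (x - i)) = iZ.appTop.hom y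
        have h7 : x - i = y + j := by rw [sub_eq_iff_eq_add, add_assoc, add_comm j i, hij]; ring
        rw [hb', h7, map_add, (RingHom.mem_ker).1 hj, add_zero]
  have hei : IsIso (CommRingCat.ofHom e) := (RingEquiv.ofBijective e he).toCommRingCatIso.isIso_hom
  have key := Groth.Agent.FlatB.PushSpec.isPushout_Spec p q hp
  refine IsPushout.of_iso key V.isoSpec.symm Y.isoSpec.symm Z.isoSpec.symm
    ((asIso (Spec.map (CommRingCat.ofHom e))) ≪≫ W.isoSpec.symm) ?_ ?_ ?_ ?_
  · simp only [Iso.symm_hom]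
    exact (Scheme.isoSpec_inv_naturality c)
  · simp only [Iso.symm_hom]
    exact (Scheme.isoSpec_inv_naturality d)
  · simp only [Iso.symm_hom, Iso.trans_hom, asIso_hom]
    rw [← Scheme.isoSpec_inv_naturality a, ← Category.assoc, ← Spec.map_comp]
    rfl
  · simp only [Iso.symm_hom, Iso.trans_hom, asIso_hom]
    rw [← Scheme.isoSpec_inv_naturality b, ← Category.assoc, ← Spec.map_comp]
    rfl

theorem range_eq (i : Y ⟶ E) [IsClosedImmersion i] [IsAffine E] :
    Set.range i = E.zeroLocus (U := ⊤) (RingHom.ker i.appTop.hom : Set Γ(E, ⊤)) := by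
  have h1 : (i.ker.support : Set E) = Set.range i := by
    rw [Scheme.Hom.support_ker, i.isClosedEmbedding.isClosed_range.closure_eq]
  rw [← h1, Scheme.ker_of_isAffine, Scheme.IdealSheafData.coe_support_ofIdealTop]

theorem range_union (h : Cfg iY iZ iV iW c d a b) : Set.range iW = Set.range iY ∪ Set.range iZ := by
  have := h.aff
  have := h.clY
  have := h.clZ
  have := h.clW
  rw [range_eq iW, range_eq iY, range_eq iZ, h.hW, Scheme.zeroLocus_inf]

theorem range_inter (h : Cfg iY iZ iV iW c d a b) : Set.range iY ∩ Set.range iZ ⊆ Set.range iV := by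
  have := h.aff
  have := h.clY
  have := h.clZ
  have := h.clV
  rw [range_eq iV, range_eq iY, range_eq iZ, h.hV, ← Scheme.toSpecΓ_preimage_zeroLocus,
    ← Scheme.toSpecΓ_preimage_zeroLocus, ← Scheme.toSpecΓ_preimage_zeroLocus, PrimeSpectrum.zeroLocus_sup]
  exact subset_rfl

theorem exists_pt (h : Cfg iY iZ iV iW c d a b) (x : W) : (∃ y, a y = x) ∨ ∃ z, b z = x := by
  have h1 := h.clW
  have h2 : iW x ∈ Set.range iY ∪ Set.range iZ := h.range_union ▸ ⟨x, rfl⟩
  rcases h2 with ⟨y, hy⟩ | ⟨z, hz⟩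
  · refine Or.inl ⟨y, iW.isClosedEmbedding.injective ?_⟩
    rw [← Scheme.Hom.comp_apply, h.ha, hy]
  · refine Or.inr ⟨z, iW.isClosedEmbedding.injective ?_⟩
    rw [← Scheme.Hom.comp_apply, h.hb, hz]

theorem exists_pt_V (h : Cfg iY iZ iV iW c d a b) (y : Y) (z : Z) (hyz : iY y = iZ z) :
    ∃ v, c v = y ∧ d v = z := by
  have h1 := h.clY
  have h2 := h.clZ
  have h3 : iY y ∈ Set.range iV := h.range_inter ⟨⟨y, rfl⟩, ⟨z, hyz.symm⟩⟩
  obtain ⟨v, hv⟩ := h3
  refine ⟨v, iY.isClosedEmbedding.injective ?_, iZ.isClosedEmbedding.injective ?_⟩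
  · rw [← Scheme.Hom.comp_apply, h.hc, hv]
  · rw [← Scheme.Hom.comp_apply, h.hd, hv, hyz]

/-- If `V` is empty, `W` is the disjoint union of `Y` and `Z`. -/
theorem isOpenImmersion_of_isEmpty (h : Cfg iY iZ iV iW c d a b) (hV : IsEmpty V) :
    IsOpenImmersion a ∧ IsOpenImmersion b := by
  have hpo := h.isPushout
  have hini : IsInitial V := isInitialOfIsEmpty
  let φ : Y ⨿ Z ⟶ W := coprod.desc a b
  let ψ : W ⟶ Y ⨿ Z := hpo.desc coprod.inl coprod.inr (hini.hom_ext _ _)
  have h1 : a ≫ ψ = coprod.inl := hpo.inl_desc _ _ _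
  have h2 : b ≫ ψ = coprod.inr := hpo.inr_desc _ _ _
  have e1 : φ ≫ ψ = 𝟙 _ := by
    apply coprod.hom_ext
    · rw [coprod.inl_desc_assoc, h1, Category.comp_id]
    · rw [coprod.inr_desc_assoc, h2, Category.comp_id]
  have e2 : ψ ≫ φ = 𝟙 _ := by
    apply hpo.hom_ext
    · rw [← Category.assoc, h1, coprod.inl_desc, Category.comp_id]
    · rw [← Category.assoc, h2, coprod.inr_desc, Category.comp_id]
  have : IsIso φ := ⟨ψ, e1, e2⟩
  constructor
  · have : a = coprod.inl ≫ φ := (coprod.inl_desc _ _).symm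
    rw [this]
    infer_instance
  · have : b = coprod.inr ≫ φ := (coprod.inr_desc _ _).symm
    rw [this]
    infer_instance

end Cfg

end K600.UnionSch
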